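import Groth.Agent.Limits.DVRPoints
import Mathlib.AlgebraicGeometry.AffineScheme
import Mathlib.AlgebraicGeometry.Morphisms.FiniteType

/-!
# Morphisms of local schemes into affine schemes
-/

set_option autoImplicit false
set_option backward.isDefEq.respectTransparency.types false

universe u

open CategoryTheory AlgebraicGeometry IsLocalRing

namespace Groth.AlgSpDVR

noncomputable section

variable {W Z : Scheme.{u}} [IsAffine W] [IsAffine Z] {A A' : CommRingCat.{u}}

/-- The ring map of a morphism into an affine scheme. -/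
@[irreducible] def toAff (l : Spec A ⟶ W) : Γ(W, ⊤) ⟶ A := Spec.preimage (l ≫ W.isoSpec.hom)

/-- The morphism of a ring map. -/
def ofAff (φ : Γ(W, ⊤) ⟶ A) : Spec A ⟶ W := Spec.map φ ≫ W.isoSpec.inv

theorem map_toAff (l : Spec A ⟶ W) : Spec.map (toAff l) = l ≫ W.isoSpec.hom := by
  unfold toAff
  exact Spec.map_preimage _

theorem toAff_ofAff (φ : Γ(W, ⊤) ⟶ A) : toAff (ofAff φ) = φ :=
  Spec.map_injective (by rw [map_toAff, ofAff, Category.assoc, Iso.inv_hom_id, Category.comp_id])

theorem toAff_comp (l : Spec A ⟶ W) (α : W ⟶ Z) : toAff (l ≫ α) = α.appTop ≫ toAff l :=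
  Spec.map_injective (by
    rw [map_toAff, Spec.map_comp, map_toAff, Category.assoc, Category.assoc]
    exact congrArg (l ≫ ·) (Scheme.isoSpec_hom_naturality α).symm)

theorem toAff_map (φ : A ⟶ A') (l : Spec A ⟶ W) : toAff (Spec.map φ ≫ l) = toAff l ≫ φ :=
  Spec.map_injective (by rw [map_toAff, Spec.map_comp, map_toAff, Category.assoc])

theorem toAff_injective {l l' : Spec A ⟶ W} (h : toAff l = toAff l') : l = l' := by
  have := congrArg Spec.map h
  rwa [map_toAff, map_toAff, cancel_mono] at this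

theorem mem_closedPoint_iff [IsLocalRing A] (l : Spec A ⟶ W) (r : Γ(W, ⊤)) :
    r ∈ (W.isoSpec.hom (l (closedPoint A)) : PrimeSpectrum Γ(W, ⊤)).asIdeal ↔
      ¬ IsUnit (toAff l r) := by
  rw [← Scheme.Hom.comp_apply, ← map_toAff]
  exact Iff.rfl

theorem mem_of_specializes {a b : W} (h : a ⤳ b) {r : Γ(W, ⊤)}
    (hr : r ∈ (W.isoSpec.hom a : PrimeSpectrum Γ(W, ⊤)).asIdeal) :
    r ∈ (W.isoSpec.hom b : PrimeSpectrum Γ(W, ⊤)).asIdeal :=
  (PrimeSpectrum.le_iff_specializes _ _).2 (h.map W.isoSpec.hom.continuous) hr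

theorem eq_of_asIdeal {a b : W}
    (h : ∀ r, r ∈ (W.isoSpec.hom a : PrimeSpectrum Γ(W, ⊤)).asIdeal ↔
      r ∈ (W.isoSpec.hom b : PrimeSpectrum Γ(W, ⊤)).asIdeal) : a = b :=
  (Scheme.homeoOfIso W.isoSpec).injective (PrimeSpectrum.ext (Ideal.ext h))

theorem essFiniteType_toAff {M : Scheme.{u}} (k : M ⟶ W) [LocallyOfFiniteType k] (m : M) :
    (toAff (M.fromSpecResidueField m ≫ k)).hom.EssFiniteType := by
  have e : toAff (M.fromSpecResidueField m ≫ k) =
      W.presheaf.germ ⊤ (k m) trivial ≫ Groth.Limits.toResidue k m specializes_rfl := by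
    apply Spec.map_injective
    rw [map_toAff, Spec.map_comp, ← Groth.Limits.toResidue_fromSpecStalk k m specializes_rfl,
      Category.assoc]
    exact congrArg (_ ≫ ·) (W.fromSpecStalk_toSpecΓ (k m))
  rw [e]
  have h2 : (W.presheaf.germ ⊤ (k m) trivial).hom.EssFiniteType := by
    letI := W.presheaf.algebra_section_stalk (⟨k m, trivial⟩ : (⊤ : W.Opens))
    haveI := (isAffineOpen_top W).isLocalization_stalk ⟨k m, trivial⟩
    exact RingHom.essFiniteType_algebraMap.2
      (Algebra.EssFiniteType.of_isLocalization (R := Γ(W, ⊤)) (W.presheaf.stalk (k m))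
        ((isAffineOpen_top W).primeIdealOf ⟨k m, trivial⟩).asIdeal.primeCompl)
  exact h2.comp (Groth.Limits.essFiniteType_toResidue k m specializes_rfl)

/-- A ring map out of the sections of an affine scheme of finite type lands in a subring containing
the base and the images of generators. -/
theorem exists_finset_generators (α : W ⟶ Z) [LocallyOfFiniteType α] :
    ∃ G : Finset Γ(W, ⊤), ∀ {L : Type u} [CommRing L] (β : Γ(W, ⊤) →+* L) (T : Subring L),
      (∀ r, β (α.appTop r) ∈ T) → (∀ g ∈ G, β g ∈ T) → ∀ a, β a ∈ T := by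
  have hf : α.appTop.hom.FiniteType :=
    (HasRingHomProperty.iff_of_isAffine (P := @LocallyOfFiniteType)).1 ‹_›
  algebraize [α.appTop.hom]
  obtain ⟨G, hG⟩ := (inferInstance : Algebra.FiniteType Γ(Z, ⊤) Γ(W, ⊤)).out
  refine ⟨G, fun {L} _ β T h₀ hg a => ?_⟩
  have ha : a ∈ Algebra.adjoin Γ(Z, ⊤) (G : Set Γ(W, ⊤)) := by rw [hG]; trivial
  induction ha using Algebra.adjoin_induction with
  | mem x hx => exact hg x hx
  | algebraMap r => exact h₀ r
  | add x y _ _ hx hy => rw [map_add]; exact T.add_mem hx hy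
  | mul x y _ _ hx hy => rw [map_mul]; exact T.mul_mem hx hy

end

end Groth.AlgSpDVR
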