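import Groth.Agent.Limits.DVRAlgebra
import Mathlib.RingTheory.Valuation.LocalSubring
import Mathlib.RingTheory.Polynomial.Basic
import Mathlib.RingTheory.Localization.AtPrime.Basic
import Mathlib.RingTheory.EssentialFiniteness

/-!
# Discrete valuation rings avoiding finitely many finite conditions
-/

set_option autoImplicit false

universe u

open IsLocalRing

namespace Groth.AlgSpDVR

variable {K : Type u} [Field K] (C : ValuationSubring K)

/-- If no valuation ring over `C` contains the finite set `s`, a polynomial in `s` with coefficients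
in the maximal ideal of `C` takes the value one. -/
theorem exists_poly_eq_one {L : Type u} [Field L] (ψ : K →+* L) (s : Finset L)
    (hno : ∀ C' : ValuationSubring L, (∀ x, ψ x ∈ C' ↔ x ∈ C) → ∃ b ∈ s, b ∉ C') :
    ∃ p : MvPolynomial ↥s C, (∀ n, p.coeff n ∈ maximalIdeal C) ∧
      MvPolynomial.eval₂Hom (ψ.comp C.subtype) (fun b : ↥s => (b : L)) p = 1 := by
  let ev := MvPolynomial.eval₂Hom (ψ.comp C.subtype) (fun b : ↥s => (b : L))
  let M : Ideal (MvPolynomial ↥s C) := (maximalIdeal C).map MvPolynomial.C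
  by_cases htop : M ⊔ RingHom.ker ev = ⊤
  · obtain ⟨p, hp, k, hk, e⟩ := Submodule.mem_sup.1 ((Ideal.eq_top_iff_one _).1 htop)
    refine ⟨p, MvPolynomial.mem_map_C_iff.1 hp, ?_⟩
    have := congrArg ev e
    rwa [map_add, RingHom.mem_ker.1 hk, add_zero, map_one] at this
  exfalso
  obtain ⟨q, hq, hqle⟩ := Ideal.exists_le_maximal _ htop
  let evR := ev.rangeRestrict
  let q' : Ideal ev.range := q.map evR
  have hker : RingHom.ker evR ≤ q := by
    rw [show RingHom.ker evR = RingHom.ker ev from ev.ker_rangeRestrict]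
    exact le_sup_right.trans hqle
  have : q'.IsPrime := Ideal.map_isPrime_of_surjective ev.rangeRestrict_surjective hker
  obtain ⟨C', hle, hloc⟩ := exists_factor_valuationRing
    (IsLocalization.lift (M := q'.primeCompl) (S := Localization.AtPrime q')
      (g := ev.range.subtype) (fun y => isUnit_iff_ne_zero.2 fun h => y.2 (by
        have : (y : ev.range) = 0 := Subtype.ext h
        rw [this]
        exact q'.zero_mem)))
  set lf := IsLocalization.lift (M := q'.primeCompl) (S := Localization.AtPrime q')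
      (g := ev.range.subtype) _ with hlf
  have hev : ∀ p, ev p ∈ C' := fun p => by
    have := hle (algebraMap ev.range (Localization.AtPrime q') (evR p))
    rwa [hlf, IsLocalization.lift_eq] at this
  have hm : ∀ p ∈ M, ¬ IsUnit (⟨ev p, hev p⟩ : C') := fun p hp hu => by
    have h1 : algebraMap ev.range (Localization.AtPrime q') (evR p) ∈
        maximalIdeal (Localization.AtPrime q') :=
      (IsLocalization.AtPrime.to_map_mem_maximal_iff _ q' _).2
        (Ideal.mem_map_of_mem _ (hqle (Ideal.mem_sup_left hp)))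
    apply (mem_maximalIdeal _).1 h1
    apply hloc.map_nonunit
    rw [show lf.codRestrict C'.toSubring hle (algebraMap _ _ (evR p)) =
      (⟨ev p, hev p⟩ : C'.toSubring) from Subtype.ext
        (show lf _ = _ by rw [hlf, IsLocalization.lift_eq]; rfl)]
    exact hu
  have hiff : ∀ x, ψ x ∈ C' ↔ x ∈ C := fun x => by
    refine ⟨fun hx => ?_, fun hx => ?_⟩
    · by_contra hxC
      have hxi : x⁻¹ ∈ C := (C.mem_or_inv_mem x).resolve_left hxC
      have hx0 : x ≠ 0 := fun h => hxC (h ▸ C.zero_mem)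
      have hmem : (⟨x⁻¹, hxi⟩ : C) ∈ maximalIdeal C := (mem_maximalIdeal _).2 fun hu => by
        obtain ⟨v, hv⟩ := hu.exists_right_inv
        have hv' : x⁻¹ * v.1 = 1 := congr(Subtype.val $hv)
        rw [inv_mul_eq_one₀ hx0] at hv'
        exact hxC (hv' ▸ v.2)
      refine hm _ (Ideal.mem_map_of_mem MvPolynomial.C hmem) ?_
      refine IsUnit.of_mul_eq_one ⟨ψ x, hx⟩ (Subtype.ext ?_)
      show ev (MvPolynomial.C ⟨x⁻¹, hxi⟩) * ψ x = 1
      simp [ev, hx0]
    · have := hev (MvPolynomial.C ⟨x, hx⟩)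
      simpa [ev] using this
  obtain ⟨b, hb, hbC⟩ := hno C' hiff
  have := hev (MvPolynomial.X ⟨b, hb⟩)
  simp [ev] at this
  exact hbC this

/-- A valuation ring of a finitely generated field extension over a Noetherian ring which misses
finitely many finite conditions in extension fields can be replaced by a discrete valuation ring
missing the same conditions. -/
theorem exists_dvr_avoiding {R : Type u} [CommRing R] [IsNoetherianRing R] (φ : R →+* K)
    (hφ : φ.EssFiniteType) (hR : ∀ r, φ r ∈ C) {ι : Type u} [Finite ι] [Nonempty ι] {L : ι → Type u}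
    [∀ i, Field (L i)] (ψ : ∀ i, K →+* L i) (s : ∀ i, Finset (L i))
    (hno : ∀ i (C' : ValuationSubring (L i)), (∀ x, ψ i x ∈ C' ↔ x ∈ C) → ∃ b ∈ s i, b ∉ C') :
    ∃ D : ValuationSubring K, IsDiscreteValuationRing D ∧ (∀ r, φ r ∈ D) ∧
      ∀ i (C' : ValuationSubring (L i)), (∀ x, ψ i x ∈ C' ↔ x ∈ D) → ∃ b ∈ s i, b ∉ C' := by
  classical
  have := Fintype.ofFinite ι
  choose p hpm hp1 using fun i => exists_poly_eq_one C (ψ i) (s i) (hno i)
  let cs : Finset C := Finset.univ.biUnion fun i => (p i).support.image fun n => (p i).coeff n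
  have hcs : ∀ c ∈ cs, c ∈ maximalIdeal C := by
    intro c hc
    obtain ⟨i, -, hc⟩ := Finset.mem_biUnion.1 hc
    obtain ⟨n, -, rfl⟩ := Finset.mem_image.1 hc
    exact hpm i n
  let φC : R →+* C := φ.codRestrict C.toSubring hR
  let Φ : MvPolynomial ↥cs R →+* C := MvPolynomial.eval₂Hom φC fun c => (c : C)
  let q : Ideal (MvPolynomial ↥cs R) := (maximalIdeal C).comap Φ
  have : q.IsPrime := Ideal.IsPrime.comap Φ
  have hunit : ∀ y : q.primeCompl, IsUnit ((C.subtype.comp Φ) y) := fun y =>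
    (notMem_maximalIdeal.1 (show Φ y ∉ maximalIdeal C from y.2)).map C.subtype
  let Ψ : Localization.AtPrime q →+* K := IsLocalization.lift hunit
  have hΨ : ∀ z, Ψ (algebraMap _ _ z) = (Φ z : K) := fun z => IsLocalization.lift_eq _ z
  have hess : Ψ.EssFiniteType := by
    refine RingHom.EssFiniteType.of_comp
      ((algebraMap (MvPolynomial ↥cs R) (Localization.AtPrime q)).comp MvPolynomial.C) ?_
    convert hφ using 1
    ext r
    simp [hΨ, Φ, φC]
  have hmem : ∀ c (hc : c ∈ cs), algebraMap _ (Localization.AtPrime q) (MvPolynomial.X (R := R) (⟨c, hc⟩ : ↥cs)) ∈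
      maximalIdeal (Localization.AtPrime q) := fun c hc =>
    (IsLocalization.AtPrime.to_map_mem_maximal_iff _ q _).2
      (show Φ (MvPolynomial.X ⟨c, hc⟩) ∈ maximalIdeal C by simpa [Φ] using hcs c hc)
  obtain ⟨i₀⟩ := (inferInstance : Nonempty ι)
  obtain ⟨n₀, hn₀⟩ : ∃ n, (p i₀).coeff n ≠ 0 := by
    by_contra! h
    exact one_ne_zero ((hp1 i₀).symm.trans (by rw [MvPolynomial.ext (p i₀) 0 (by simpa using h)]; simp))
  have hc₀ : (p i₀).coeff n₀ ∈ cs := Finset.mem_biUnion.2 ⟨i₀, Finset.mem_univ _,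
    Finset.mem_image.2 ⟨n₀, MvPolynomial.mem_support_iff.2 hn₀, rfl⟩⟩
  have h0 : ∃ r ∈ maximalIdeal (Localization.AtPrime q), Ψ r ≠ 0 :=
    ⟨_, hmem _ hc₀, by
      rw [hΨ]
      simpa [Φ] using hn₀⟩
  obtain ⟨D, hD, hdvr, hloc⟩ := Groth.Limits.exists_dvr_valuationSubring Ψ hess h0
  refine ⟨D, hdvr, fun r => ?_, fun i C' hC' => ?_⟩
  · have := hD (algebraMap _ _ (MvPolynomial.C (σ := ↥cs) r))
    simpa [hΨ, Φ, φC] using this
  by_contra! hall
  let ev := MvPolynomial.eval₂Hom ((ψ i).comp C.subtype) (fun b : ↥(s i) => (b : L i))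
  have hcoeff : ∀ n, ∃ hc : ψ i (C.subtype ((p i).coeff n)) ∈ C', ¬ IsUnit (⟨_, hc⟩ : C') := by
    intro n
    by_cases h0 : (p i).coeff n = 0
    · refine ⟨by simp [h0], fun hu => ?_⟩
      exact hu.ne_zero (Subtype.ext (by simp [h0]))
    have hc : (p i).coeff n ∈ cs := Finset.mem_biUnion.2 ⟨i, Finset.mem_univ _,
      Finset.mem_image.2 ⟨n, MvPolynomial.mem_support_iff.2 h0, rfl⟩⟩
    have hcD : (C.subtype ((p i).coeff n)) ∈ D := by
      simpa [hΨ, Φ] using hD (algebraMap _ _ (MvPolynomial.X (R := R) (⟨_, hc⟩ : ↥cs)))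
    refine ⟨(hC' _).2 hcD, fun hu => ?_⟩
    have hnu : ¬ IsUnit (⟨_, hcD⟩ : D) := fun h' => (mem_maximalIdeal _).1 (hmem _ hc)
      (hloc.map_nonunit _ (by
        rw [show Ψ.codRestrict D.toSubring hD (algebraMap _ _ (MvPolynomial.X (R := R) (⟨_, hc⟩ : ↥cs))) =
          (⟨_, hcD⟩ : D.toSubring) from Subtype.ext (show Ψ _ = _ by simp [hΨ, Φ])]
        exact h'))
    apply hnu
    obtain ⟨v, hv⟩ := hu.exists_right_inv
    have hv' : ψ i (C.subtype ((p i).coeff n)) * v.1 = 1 := congr(Subtype.val $hv)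
    have hk0 : (C.subtype ((p i).coeff n)) ≠ 0 := fun h => h0 (Subtype.ext h)
    have : v.1 = ψ i ((C.subtype ((p i).coeff n)))⁻¹ := by
      rw [map_inv₀]
      exact eq_inv_of_mul_eq_one_right hv'
    exact IsUnit.of_mul_eq_one ⟨_, (hC' _).1 (this ▸ v.2)⟩ (Subtype.ext (mul_inv_cancel₀ hk0))
  have h1 : (1 : C') ∈ maximalIdeal C' := by
    have hsum : (1 : C') = ∑ n ∈ (p i).support,
        (⟨_, (hcoeff n).1⟩ : C') * n.prod fun b e => (⟨b.1, hall b.1 b.2⟩ : C') ^ e := by
      apply Subtype.ext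
      rw [show ((1 : C') : L i) = 1 from rfl, ← hp1 i]
      rw [show ev (p i) = _ from MvPolynomial.eval₂_eq _ _ _]
      rw [AddSubmonoidClass.coe_finsetSum]
      refine Finset.sum_congr rfl fun n _ => ?_
      simp [Finsupp.prod, SubmonoidClass.coe_finsetProd]
    rw [hsum]
    exact Ideal.sum_mem _ fun n _ =>
      Ideal.mul_mem_right _ _ ((mem_maximalIdeal _).2 (hcoeff n).2)
  exact (mem_maximalIdeal _).1 h1 isUnit_one

end Groth.AlgSpDVR
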