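import Groth.Agent.AlgSpDVR.Core
import Groth.Agent.AlgSp2.UnivClosedTest
import Groth.Agent.AlgSp2.InfSmallExt
import Groth.Agent.GrpschAbsch.AffineSpaceExtra
import Groth.Agent.Limits.DVRPoints

/-!
# Universally closed morphisms from liftings at discrete valuation rings
-/

set_option autoImplicit false
set_option backward.isDefEq.respectTransparency.types false

universe u

open CategoryTheory CategoryTheory.Limits AlgebraicGeometry AlgSp IsLocalRing
open Groth.AlgSpBasic Groth.AlgSp3

noncomputable section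

namespace Groth.AlgSpDVR

variable {S : Scheme.{u}} {U X Y : Sp S}

/-- A valuative square for `h ≫ f`, read as one for `f`. -/
@[reducible] def pushSq {h : U ⟶ X} {f : X ⟶ Y} (sq : ValSq (h ≫ f)) : ValSq f where
  A := sq.A
  K := sq.K
  str := sq.str
  top := sq.top ≫ h
  bot := sq.bot
  comm := (Category.assoc _ _ _).trans sq.comm

/-- Valuative squares over discrete valuation rings through `h` have lifts after extension. -/
def LiftsThrough (h : U ⟶ X) (f : X ⟶ Y) : Prop :=
  ∀ sq : ValSq (h ≫ f), IsDiscreteValuationRing sq.A → (pushSq sq).HasLiftExt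

/-- Valuative squares over discrete valuation rings have lifts after extension. -/
def LiftsDVR (f : X ⟶ Y) : Prop :=
  ∀ sq : ValSq f, IsDiscreteValuationRing sq.A → sq.HasLiftExt

theorem image_eq_of_chart {P : Sp S} {W Z : Over S} {w : (yon S).obj W ⟶ P}
    (hws : RepWith @Surjective w) {snd : P ⟶ (yon S).obj Z} {α : W ⟶ Z}
    (hα : (yon S).map α = w ≫ snd) (T : Set (Points P)) :
    Points.map snd '' T = Points.schemeHomeo Z '' (α.left '' (Points.ofPt w ⁻¹' T)) := by
  have key : ∀ u : W.left,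
      Points.map snd (Points.ofPt w u) = Points.schemeHomeo Z (α.left u) := fun u => by
    rw [Points.map_ofPt, ← hα, ofPt_eq_map]
    exact Points.map_yon_map_apply α u
  ext z
  constructor
  · rintro ⟨p, hp, rfl⟩
    obtain ⟨u, rfl⟩ := surjective_ofPt_of_repWith hws p
    exact ⟨α.left u, ⟨u, hp, rfl⟩, (key u).symm⟩
  · rintro ⟨_, ⟨u, hu, rfl⟩, rfl⟩
    exact ⟨_, hu, key u⟩

/-- A morphism of finite type with lifts at discrete valuation rings has closed base changes to
Noetherian affine schemes. -/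
theorem isClosedMap_of_liftsDVR (hX : IsAlgSpace X) (hY : IsAlgSpace Y) {f : X ⟶ Y}
    (hft : IsFiniteTypeMor f) (hval : LiftsDVR f) {Z : Over S} [IsAffine Z.left]
    [IsLocallyNoetherian Z.left] {g : (yon S).obj Z ⟶ Y} {P : Sp S} {fst : P ⟶ X}
    {snd : P ⟶ (yon S).obj Z} (sq : IsPullback fst snd f g) : IsClosedMap (Points.map snd) := by
  have hZs := IsAlgSpace.yon_obj Z
  have hP := isAlgSpace_of_isPullback sq hY.diag hX hZs
  have hlft : LocP @LocallyOfFiniteType snd := locP_of_isPullback hX hY hZs sq hft.1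
  have hPc : IsQuasiCompactSp P :=
    hft.2 hZs ((isQuasiCompactSp_yon_iff _).2 (inferInstance : CompactSpace Z.left)) g fst snd sq
  obtain ⟨W, w, hW, hwe, hws⟩ := exists_affine_chart hP hPc
  have : IsAffine W.left := hW
  obtain ⟨α, hα⟩ := (yon S).map_surjective (w ≫ snd)
  have : LocallyOfFiniteType α.left :=
    hlft w (𝟙 _) α hwe (AlgSp.repWith_id @Etale Z) (by rw [Category.comp_id, hα])
  intro T hT
  rw [image_eq_of_chart hws hα T]
  refine (Points.schemeHomeo Z).isClosedMap _
    (isClosed_image_of_stable α.left (hT.preimage (Points.continuous_ofPt w)) ?_)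
  rintro _ z' hz ⟨w₀, hw₀, rfl⟩
  rcases eq_or_ne z' (α.left w₀) with rfl | hne
  · exact ⟨w₀, hw₀, rfl⟩
  obtain ⟨A, g₀, hA, hg₀c, hg₀⟩ := Groth.Limits.exists_dvr_residueField α.left w₀ z' hz hne
  let str : Spec (CommRingCat.of A) ⟶ S := g₀ ≫ Z.hom
  let xO : Over.mk (Spec.map (CommRingCat.ofHom (algebraMap A (W.left.residueField w₀))) ≫ str) ⟶
      W := Over.homMk (W.left.fromSpecResidueField w₀) (by
    show W.left.fromSpecResidueField w₀ ≫ W.hom = Spec.map _ ≫ g₀ ≫ Z.hom
    rw [← Over.w α, ← Category.assoc, ← hg₀, Category.assoc]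
    rfl)
  let gO : Over.mk str ⟶ Z := Over.homMk g₀ rfl
  let v : ValSq f :=
    { A := A
      K := W.left.residueField w₀
      str := str
      top := (yon S).map xO ≫ w ≫ fst
      bot := (yon S).map gO ≫ g
      comm := by
        rw [Category.assoc, Category.assoc, sq.w, reassoc_of% hα.symm, ← Functor.map_comp_assoc,
          ← Functor.map_comp_assoc]
        congr 2
        exact Over.OverMorphism.ext hg₀.symm }
  obtain ⟨e, l, hl, hl'⟩ := hval v hA
  let pA : e.ptA' ⟶ Over.mk str := Over.homMk (Spec.map (CommRingCat.ofHom e.φ)) rfl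
  let jj : e.ptK' ⟶ e.ptA' :=
    Over.homMk (Spec.map (CommRingCat.ofHom (algebraMap e.A' e.K'))) rfl
  have hl₂ : l ≫ f = ((yon S).map pA ≫ (yon S).map gO) ≫ g :=
    hl'.trans (Category.assoc _ _ _).symm
  let pK : e.ptK' ⟶ v.ptK := Over.homMk (Spec.map (CommRingCat.ofHom e.ψ)) (by
    change Spec.map _ ≫ Spec.map _ ≫ _ = Spec.map _ ≫ Spec.map _ ≫ _
    rw [← Spec.map_comp_assoc, ← Spec.map_comp_assoc, ← CommRingCat.ofHom_comp,
      ← CommRingCat.ofHom_comp, e.comm])
  have hl₁ : (yon S).map jj ≫ l = (yon S).map pK ≫ (yon S).map xO ≫ w ≫ fst := hl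
  obtain ⟨l', hl'₁, hl'₂⟩ : ∃ l' : (yon S).obj e.ptA' ⟶ P,
      l' ≫ fst = l ∧ l' ≫ snd = (yon S).map pA ≫ (yon S).map gO :=
    ⟨_, sq.lift_fst _ _ hl₂, sq.lift_snd _ _ hl₂⟩
  have ej : jj ≫ pA ≫ gO = pK ≫ xO ≫ α := Over.OverMorphism.ext (by
    show Spec.map _ ≫ Spec.map _ ≫ g₀ = Spec.map _ ≫ W.left.fromSpecResidueField w₀ ≫ α.left
    rw [← hg₀, ← Spec.map_comp_assoc, ← Spec.map_comp_assoc, ← CommRingCat.ofHom_comp,
      ← CommRingCat.ofHom_comp]
    exact congrArg (fun t => Spec.map (CommRingCat.ofHom t) ≫ g₀) e.comm)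
  have hjl : (yon S).map jj ≫ l' = (yon S).map (pK ≫ xO) ≫ w := by
    apply sq.hom_ext
    · rw [Category.assoc, hl'₁, hl₁]
      simp only [Functor.map_comp, Category.assoc]
    · rw [Category.assoc, hl'₂, ← Functor.map_comp, ← Functor.map_comp, ej]
      simp only [Functor.map_comp, Category.assoc, hα]
  let c : e.ptA'.left := closedPoint e.A'
  let z₀ : e.ptK'.left := closedPoint e.K'
  have hgen : Points.ofPt l' (jj.left z₀) ∈ T := by
    rw [← ofPt_comp_yon jj l' z₀, hjl, ofPt_comp_yon]
    show Points.ofPt w (W.left.fromSpecResidueField w₀ _) ∈ T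
    rw [Scheme.fromSpecResidueField_apply]
    exact hw₀
  have hc : Points.ofPt l' c ∈ T :=
    ((specializes_of_fraction (A := e.A') (K := e.K') z₀ c).map
      (Points.continuous_ofPt l')).mem_closed hT hgen
  obtain ⟨q, hq'⟩ := surjective_ofPt_of_repWith hws (Points.ofPt l' c)
  refine ⟨q, show Points.ofPt w q ∈ T by rw [hq']; exact hc, (Points.schemeHomeo Z).injective ?_⟩
  refine (Points.map_yon_map_apply α q).symm.trans ?_
  rw [hα, Points.map_comp]
  refine (congrArg (Points.map snd) (ofPt_eq_map w q).symm).trans ?_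
  rw [hq', Points.map_ofPt, hl'₂, ← Functor.map_comp, ofPt_eq_map]
  refine (Points.map_yon_map_apply (pA ≫ gO) _).trans (congrArg (Points.schemeHomeo Z) ?_)
  show g₀ (Spec.map (CommRingCat.ofHom e.φ) c) = z'
  rw [show Spec.map (CommRingCat.ofHom e.φ) c = IsLocalRing.closedPoint A from
    (IsLocalRing.isLocalHom_iff_comap_closedPoint e.φ).1 e.isLocalHom, hg₀c]

/-- A separated morphism of finite type with lifts at discrete valuation rings through a dense
morphism of finite type has closed base changes to Noetherian affine schemes flat and locally of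
finite presentation over the target. -/
theorem isClosedMap_of_liftsThrough (hU : IsAlgSpace U) (hX : IsAlgSpace X) (hY : IsAlgSpace Y)
    {h : U ⟶ X} {f : X ⟶ Y} (hfs : IsSeparatedMor f) (hft : IsFiniteTypeMor f)
    (hh : IsFiniteTypeMor h) (hdense : Dense (Set.range (Points.map h))) (hval : LiftsThrough h f)
    {Z : Over S} [IsAffine Z.left] [IsLocallyNoetherian Z.left] {g : (yon S).obj Z ⟶ Y}
    (hgf : LocP @Flat g) (hgp : LocP @LocallyOfFinitePresentation g) {P : Sp S} {fst : P ⟶ X}
    {snd : P ⟶ (yon S).obj Z} (sq : IsPullback fst snd f g) : IsClosedMap (Points.map snd) := by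
  have hZs := IsAlgSpace.yon_obj Z
  have hP := isAlgSpace_of_isPullback sq hY.diag hX hZs
  have hsep : IsSeparatedMor snd :=
    Groth.AlgStBasic.stableBaseChange_sep hX hY hP hZs _ _ _ _ sq hfs
  have hlft : LocP @LocallyOfFiniteType snd := locP_of_isPullback hX hY hZs sq hft.1
  have hPc : IsQuasiCompactSp P :=
    hft.2 hZs ((isQuasiCompactSp_yon_iff _).2 (inferInstance : CompactSpace Z.left)) g fst snd sq
  obtain ⟨W, w, hW, hwe, hws⟩ := exists_affine_chart hP hPc
  have : IsAffine W.left := hW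
  obtain ⟨α, hα⟩ := (yon S).map_surjective (w ≫ snd)
  have : LocallyOfFiniteType α.left :=
    hlft w (𝟙 _) α hwe (AlgSp.repWith_id @Etale Z) (by rw [Category.comp_id, hα])
  have hwq : RepWith @QuasiCompact w := by
    refine repWith_of_comp_of_diagonal @QuasiCompact (b := snd) ?_
      (Groth.AlgStBasic.qs_of_sep hsep)
    rw [← hα, repWith_yon_map_iff]
    infer_instance
  -- the dense chart
  let hP' : pullback h fst ⟶ P := pullback.snd h fst
  have sqU : IsPullback (pullback.fst h fst) hP' h fst := IsPullback.of_hasPullback _ _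
  have hUP := isAlgSpace_of_isPullback sqU hX.diag hU hP
  obtain ⟨WU, wu, hWU, hwue, hwus⟩ := exists_affine_chart hUP (hh.2 hP hPc fst _ _ sqU)
  have : IsAffine WU.left := hWU
  obtain ⟨M, mU, mW, sqM⟩ := exists_pullback_of_diag hP.diag (wu ≫ hP') w
  have hmUq : QuasiCompact mU.left :=
    (repWith_yon_map_iff _ mU).1 (repWith_of_isPullback sqM.flip hwq)
  have : CompactSpace M.left := QuasiCompact.compactSpace_of_compactSpace mU.left
  have : QuasiCompact mW.left := (quasiCompact_iff_compactSpace mW.left).2 ‹_›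
  have hmUe : Etale mU.left := (repWith_yon_map_iff _ mU).1 (repWith_of_isPullback sqM.flip hwe)
  have : LocallyOfFiniteType mW.left :=
    (locP_of_isPullback hU hX hP sqU hh.1) ((yon S).map mU ≫ wu) w mW
      (repWith_comp ((repWith_yon_map_iff _ mU).2 hmUe) hwue) hwe
      (by rw [Category.assoc]; exact sqM.w)
  have hmdense : DenseRange mW.left := by
    have hr : Set.range mW.left =
        Points.ofPt w ⁻¹' (Points.map fst ⁻¹' Set.range (Points.map h)) := by
      ext z
      constructor
      · rintro ⟨m, rfl⟩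
        refine ⟨Points.ofPt (wu ≫ pullback.fst h fst) (mU.left m), ?_⟩
        rw [← ofPt_comp_yon mW w m, ← sqM.w, ofPt_comp_yon, Points.map_ofPt, Points.map_ofPt,
          Category.assoc, Category.assoc, sqU.w]
      · rintro ⟨a, ha⟩
        obtain ⟨b, -, hb⟩ := exists_point_of_isPullback sqU a (Points.ofPt w z) ha
        obtain ⟨c, rfl⟩ := surjective_ofPt_of_repWith hwus b
        obtain ⟨m, -, hm⟩ := (ofPt_eq_ofPt_iff sqM c z).1 ((Points.map_ofPt _ _ _).symm.trans hb)
        exact ⟨m, hm⟩
    rw [DenseRange, hr]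
    exact (hdense.preimage (Groth.AlgSp2.isOpenMor_of_fppf hP hX
      (locP_of_isPullback hZs hY hX sq.flip hgf) (locP_of_isPullback hZs hY hX sq.flip hgp))).preimage
      (isOpenMap_ofPt_of_etale hwe)
  intro T hT
  rw [image_eq_of_chart hws hα T]
  refine (Points.schemeHomeo Z).isClosedMap _
    (isClosed_image_of_stable α.left (hT.preimage (Points.continuous_ofPt w)) ?_)
  rintro _ z' hz ⟨w₀, hw₀, rfl⟩
  obtain ⟨m, hm⟩ := Groth.SchemeMorphisms.exists_specializes_of_mem_closure_range mW.left
    (hmdense w₀)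
  obtain ⟨B, gB, C, hCB, hRC, hgB, hgBc, hRCu⟩ := exists_composite_centre mW.left α.left hm hz
  let str : Spec (M.left.residueField m) ⟶ S := M.left.fromSpecResidueField m ≫ M.hom
  let rM : Over.mk str ⟶ M := Over.homMk (M.left.fromSpecResidueField m) rfl
  let xK : Over.mk str ⟶ W := rM ≫ mW
  obtain ⟨F, fw, fk, sqF⟩ := exists_pullback_of_diag hP.diag w ((yon S).map xK ≫ w)
  have : Etale fk.left := (repWith_yon_map_iff _ fk).1 (repWith_of_isPullback sqF hwe)
  have hfkq : QuasiCompact fk.left := (repWith_yon_map_iff _ fk).1 (repWith_of_isPullback sqF hwq)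
  let k₀ : (Over.mk str).left := closedPoint (M.left.residueField m)
  have hk₀ : ∀ y : (Over.mk str).left, y = k₀ := fun y =>
    Subsingleton.elim (α := PrimeSpectrum (M.left.residueField m)) y k₀
  have : Finite F.left := by
    have := Groth.AlgSpBasic.locallyQuasiFinite_of_formallyUnramified fk.left
    have h := fk.left.finite_preimage_singleton k₀
    rw [show fk.left ⁻¹' {k₀} = Set.univ from Set.eq_univ_of_forall fun y => hk₀ _] at h
    exact Set.finite_univ_iff.1 h
  have : Nonempty F.left := by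
    obtain ⟨y, -, -⟩ := (ofPt_eq_ofPt_iff sqF (xK.left k₀) k₀).1 (ofPt_comp_yon xK w k₀).symm
    exact ⟨y⟩
  let ψ : ∀ i : F.left, M.left.residueField m →+* F.left.residueField i := fun i =>
    (Spec.preimage (F.left.fromSpecResidueField i ≫ fk.left)).hom
  have hψ : ∀ i : F.left, Spec.map (CommRingCat.ofHom (ψ i)) =
      F.left.fromSpecResidueField i ≫ fk.left := fun i => by
    rw [CommRingCat.ofHom_hom, Spec.map_preimage]
  let β : ∀ i : F.left, Γ(W.left, ⊤) →+* F.left.residueField i := fun i =>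
    (toAff (F.left.fromSpecResidueField i ≫ fw.left)).hom
  obtain ⟨G, hG⟩ := exists_finset_generators α.left
  have hFα : fw ≫ α = fk ≫ xK ≫ α := (yon S).map_injective (by
    rw [Functor.map_comp, Functor.map_comp, Functor.map_comp, hα, ← Category.assoc, sqF.w]
    simp only [Category.assoc])
  have hβR : ∀ i r, β i (α.left.appTop r) = ψ i (baseMap mW.left α.left m r) := fun i r => by
    have : α.left.appTop ≫ toAff (F.left.fromSpecResidueField i ≫ fw.left) =
        (α.left.appTop ≫ toAff (M.left.fromSpecResidueField m ≫ mW.left)) ≫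
          CommRingCat.ofHom (ψ i) := by
      rw [← toAff_comp, ← toAff_comp, ← toAff_map]
      erw [hψ i]
      rw [Category.assoc, Category.assoc, Category.assoc]
      exact congrArg (fun t => toAff (F.left.fromSpecResidueField i ≫ t))
        (congrArg CommaMorphism.left hFα)
    exact congr($this r)
  classical
  by_cases hA : ∃ (i : F.left) (C' : ValuationSubring (F.left.residueField i)),
      (∀ x, ψ i x ∈ C' ↔ x ∈ C) ∧ ∀ b ∈ G.image (β i), b ∈ C'
  · obtain ⟨i, C', hC', hs⟩ := hA
    have hβC : ∀ a, β i a ∈ C' := hG (β i) C'.toSubring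
      (fun r => show β i (α.left.appTop r) ∈ C' by rw [hβR]; exact (hC' _).2 (hRC r))
      fun a ha => hs _ (Finset.mem_image_of_mem _ ha)
    exact exists_mem_of_extension hsep hα hT xK B C hCB gB hgB (Set.mem_of_eq_of_mem (congrArg (Points.ofPt w) hgBc) hw₀) hRC hRCu
      fw fk sqF.w (ψ i) (hψ i) C' hC' hβC
  exfalso
  push Not at hA
  have : IsNoetherianRing Γ(Z.left, ⊤) :=
    IsLocallyNoetherian.component_noetherian ⟨⊤, isAffineOpen_top _⟩
  have hess : (baseMap mW.left α.left m).EssFiniteType := by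
    have h₀ := essFiniteType_toAff (mW.left ≫ α.left) m
    rwa [← Category.assoc, toAff_comp] at h₀
  obtain ⟨D, hD, hRD, hDno⟩ := exists_dvr_avoiding C (baseMap mW.left α.left m) hess hRC ψ
    (fun i => G.image (β i)) fun i C' hC' => hA i C' hC'
  let gD : Spec (CommRingCat.of D) ⟶ Z.left :=
    ofAff (CommRingCat.ofHom ((baseMap mW.left α.left m).codRestrict D.toSubring hRD))
  have hgD : Spec.map (CommRingCat.ofHom (algebraMap D (M.left.residueField m))) ≫ gD =
      M.left.fromSpecResidueField m ≫ mW.left ≫ α.left := by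
    refine toAff_injective ?_
    rw [← Category.assoc (M.left.fromSpecResidueField m), toAff_map, toAff_comp, toAff_ofAff]
    rfl
  let TD : Over S := Over.mk
    (Spec.map (CommRingCat.ofHom (algebraMap D (M.left.residueField m))) ≫ gD ≫ Z.hom)
  let eK : TD ⟶ Over.mk str := Over.homMk (𝟙 _) (by
    show 𝟙 _ ≫ M.left.fromSpecResidueField m ≫ M.hom = Spec.map _ ≫ gD ≫ Z.hom
    rw [Category.id_comp, reassoc_of% hgD, Over.w α, Over.w mW])
  let gDO : Over.mk (gD ≫ Z.hom) ⟶ Z := Over.homMk gD rfl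
  have ecomm : eK ≫ rM ≫ mW ≫ α =
      (Over.homMk (Spec.map (CommRingCat.ofHom (algebraMap D (M.left.residueField m)))) rfl :
        TD ⟶ Over.mk (gD ≫ Z.hom)) ≫ gDO :=
    Over.OverMorphism.ext ((Category.id_comp _).trans hgD.symm)
  let v : ValSq (h ≫ f) :=
    { A := D
      K := M.left.residueField m
      str := gD ≫ Z.hom
      top := (yon S).map (eK ≫ rM ≫ mU) ≫ wu ≫ pullback.fst h fst
      bot := (yon S).map gDO ≫ g
      comm := by
        have e₀ : (wu ≫ pullback.fst h fst) ≫ h ≫ f = (wu ≫ hP') ≫ snd ≫ g := by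
          simp only [Category.assoc, reassoc_of% sqU.w, sq.w]
        rw [Category.assoc, e₀, Functor.map_comp, Functor.map_comp]
        simp only [Category.assoc]
        rw [reassoc_of% sqM.w, reassoc_of% hα.symm, ← Functor.map_comp_assoc,
          ← Functor.map_comp_assoc, ← Functor.map_comp_assoc, ← Functor.map_comp_assoc]
        exact congrArg (fun t => (yon S).map t ≫ g) (by simpa only [Category.assoc] using ecomm) }
  obtain ⟨e, l, hl₁, hl₂⟩ := hval v hD
  let pA : e.ptA' ⟶ Over.mk (gD ≫ Z.hom) := Over.homMk (Spec.map (CommRingCat.ofHom e.φ)) rfl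
  let pK : e.ptK' ⟶ TD := Over.homMk (Spec.map (CommRingCat.ofHom e.ψ)) (by
    change Spec.map _ ≫ Spec.map _ ≫ _ = Spec.map _ ≫ Spec.map _ ≫ _
    rw [← Spec.map_comp_assoc, ← Spec.map_comp_assoc, ← CommRingCat.ofHom_comp,
      ← CommRingCat.ofHom_comp, e.comm])
  let jj : e.ptK' ⟶ e.ptA' :=
    Over.homMk (Spec.map (CommRingCat.ofHom (algebraMap e.A' e.K'))) rfl
  have hl₁' : (yon S).map jj ≫ l = (yon S).map pK ≫ v.top ≫ h := hl₁
  have hl₂' : l ≫ f = ((yon S).map pA ≫ (yon S).map gDO) ≫ g :=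
    hl₂.trans (Category.assoc _ _ _).symm
  obtain ⟨l', hl'₁, hl'₂⟩ : ∃ l' : (yon S).obj e.ptA' ⟶ P,
      l' ≫ fst = l ∧ l' ≫ snd = (yon S).map pA ≫ (yon S).map gDO :=
    ⟨_, sq.lift_fst _ _ hl₂', sq.lift_snd _ _ hl₂'⟩
  have ej : jj ≫ pA ≫ gDO = pK ≫ eK ≫ xK ≫ α := Over.OverMorphism.ext (by
    show Spec.map _ ≫ Spec.map _ ≫ gD =
      Spec.map _ ≫ 𝟙 _ ≫ (M.left.fromSpecResidueField m ≫ mW.left) ≫ α.left
    rw [Category.id_comp, Category.assoc, ← hgD, ← Spec.map_comp_assoc, ← Spec.map_comp_assoc,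
      ← CommRingCat.ofHom_comp, ← CommRingCat.ofHom_comp]
    exact congrArg (fun t => Spec.map (CommRingCat.ofHom t) ≫ gD) e.comm)
  have hjl : (yon S).map jj ≫ l' = (yon S).map (pK ≫ eK) ≫ (yon S).map xK ≫ w := by
    apply sq.hom_ext
    · rw [Category.assoc, hl'₁, hl₁']
      simp only [v, xK, Functor.map_comp, Category.assoc]
      have e₁ : (yon S).map mU ≫ wu ≫ pullback.fst h fst ≫ h = (yon S).map mW ≫ w ≫ fst :=
        (congrArg (fun t => (yon S).map mU ≫ wu ≫ t) sqU.w).trans
          ((by simp only [Category.assoc] : _ = ((yon S).map mU ≫ wu ≫ hP') ≫ fst).trans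
            ((congrArg (fun t => t ≫ fst) sqM.w).trans (Category.assoc _ _ _)))
      exact congrArg (fun t => (yon S).map pK ≫ (yon S).map eK ≫ (yon S).map rM ≫ t) e₁
    · rw [Category.assoc, hl'₂, ← Functor.map_comp, ← Functor.map_comp, ej]
      simp only [Functor.map_comp, Category.assoc, hα]
  have := e.isLocalHom
  obtain ⟨y, C', hC', hβC⟩ := exists_extension_of_lift hP hwe hws D xK e.φ e.ψ e.comm l'
    (pK ≫ eK) (Category.comp_id _) hjl sqF ψ hψ
  obtain ⟨b, hb, hbn⟩ := hDno y C' hC'
  obtain ⟨a, -, rfl⟩ := Finset.mem_image.1 hb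
  exact hbn (hβC a)

/-- Closedness over a locally Noetherian scheme is checked on affine opens. -/
theorem isClosedMap_of_affine_opens {P : Sp S} {Z : Over S} (snd : P ⟶ (yon S).obj Z)
    (H : ∀ (O : Z.left.Opens), IsAffineOpen O →
      IsClosedMap (Points.map (pullback.snd snd
        ((yon S).map (Over.homMk O.ι rfl : Over.mk (O.ι ≫ Z.hom) ⟶ Z))))) :
    IsClosedMap (Points.map snd) := by
  intro T hT
  rw [← (Points.schemeHomeo Z).isClosed_preimage, ← isOpen_compl_iff, isOpen_iff_forall_mem_open]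
  intro p hp
  obtain ⟨O, hO, hpO, -⟩ := exists_isAffineOpen_mem_and_subset (X := Z.left) (x := p)
    (U := ⊤) trivial
  let jO : Over.mk (O.ι ≫ Z.hom) ⟶ Z := Over.homMk O.ι rfl
  have sqO := IsPullback.of_hasPullback snd ((yon S).map jO)
  have hc : IsClosed (Points.map ((yon S).map jO) ⁻¹' (Points.map snd '' T)) := by
    rw [preimage_image_eq_of_isPullback sqO]
    exact H O hO _ (hT.preimage (Points.continuous_map _))
  rw [← (Points.schemeHomeo (Over.mk (O.ι ≫ Z.hom))).isClosed_preimage] at hc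
  refine ⟨O.ι '' (Points.schemeHomeo (Over.mk (O.ι ≫ Z.hom)) ⁻¹'
    (Points.map ((yon S).map jO) ⁻¹' (Points.map snd '' T)))ᶜ, ?_,
    O.ι.isOpenEmbedding.isOpenMap _ hc.isOpen_compl, ⟨⟨p, hpO⟩, ?_, rfl⟩⟩
  · rintro _ ⟨o, ho, rfl⟩ hmem
    refine ho ?_
    show Points.map ((yon S).map jO) (Points.schemeHomeo _ o) ∈ Points.map snd '' T
    rw [show Points.map ((yon S).map jO) (Points.schemeHomeo _ o) =
      Points.schemeHomeo Z (jO.left o) from Points.map_yon_map_apply jO o]
    exact hmem
  · intro hmem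
    refine hp ?_
    have := hmem
    rw [Set.mem_preimage, Set.mem_preimage,
      show Points.map ((yon S).map jO) (Points.schemeHomeo _ (⟨p, hpO⟩ : O.toScheme)) =
        Points.schemeHomeo Z (jO.left (⟨p, hpO⟩ : O.toScheme)) from
          Points.map_yon_map_apply jO _] at this
    exact this

/-- Universal closedness from closedness over Noetherian affine schemes flat and locally of finite
presentation over a locally Noetherian target. -/
theorem isUnivClosedMor_of_closed {X Y : Space S} (f : X ⟶ Y) (hq : IsQuasiCompactMor f.hom)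
    (hN : IsLocNoethSp Y.obj)
    (H : ∀ (Z : Over S) [IsAffine Z.left] [IsLocallyNoetherian Z.left]
      (g : (yon S).obj Z ⟶ Y.obj), LocP @Flat g → LocP @LocallyOfFinitePresentation g →
        ∀ (P : Sp S) (fst : P ⟶ X.obj) (snd : P ⟶ (yon S).obj Z),
          IsPullback fst snd f.hom g → IsClosedMap (Points.map snd)) :
    IsUnivClosedMor f.hom := by
  obtain ⟨V, p, hp, hps⟩ := Y.property.atlas
  have : IsLocallyNoetherian V.left :=
    Groth.AlgSp2.isLocallyNoetherian_of_etale Y.property hN hp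
  refine ((Groth.AlgSp2.UnivClosedTest.univClosed_iff f hq).2).2
    ⟨V, p, hp, hps, fun n P fst snd sq => ?_⟩
  let r : 𝔸(ULift.{u} (Fin n); V.left) ⟶ V.left := 𝔸(ULift.{u} (Fin n); V.left) ↘ V.left
  let An : Over S := Over.mk (r ≫ V.hom)
  have hsm : Smooth r := Groth.GrpschAbsch.smooth_affineSpace _ V.left
  refine isClosedMap_of_affine_opens (Z := An) snd fun O hO => ?_
  let jO : Over.mk (O.ι ≫ An.hom) ⟶ An := Over.homMk O.ι rfl
  let pr : An ⟶ V := Over.homMk r rfl
  have sqO := (IsPullback.of_hasPullback snd ((yon S).map jO)).paste_horiz sq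
  have : IsAffine (Over.mk (O.ι ≫ An.hom)).left := hO
  have : IsLocallyNoetherian (Over.mk (O.ι ≫ An.hom)).left :=
    LocallyOfFiniteType.isLocallyNoetherian (O.ι ≫ r)
  have hs : Smooth (jO ≫ pr).left := inferInstanceAs (Smooth (O.ι ≫ r))
  have aux : ∀ {Q : MorphismProperty Scheme.{u}} [EtaleLocal Q] [Q.IsStableUnderBaseChange]
      [Q.RespectsIso], (∀ ⦃A B : Scheme.{u}⦄ (k : A ⟶ B), Smooth k → Q k) →
      LocP Q ((yon S).map jO ≫ (yon S).map pr ≫ p) := fun hQ => by
    rw [← Category.assoc, ← Functor.map_comp]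
    exact locP_comp (IsAlgSpace.yon_obj _) (IsAlgSpace.yon_obj V) Y.property
      (locP_of_repWith ((repWith_yon_map_iff _ _).2 (hQ _ hs)))
      (locP_of_repWith (repWith_mono (fun A B k (hk : Etale k) => hQ k inferInstance) hp))
  exact H _ _ (aux (Q := @Flat) fun _ _ k (_ : Smooth k) => inferInstance)
    (aux (Q := @LocallyOfFinitePresentation) fun _ _ k (_ : Smooth k) => inferInstance) _ _ _ sqO

/-- A morphism of finite type to a locally Noetherian space with lifts at discrete valuation rings is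
universally closed. -/
theorem isUnivClosedMor_of_liftsDVR {X Y : Space S} (f : X ⟶ Y) (hft : IsFiniteTypeMor f.hom)
    (hN : IsLocNoethSp Y.obj) (hval : LiftsDVR f.hom) : IsUnivClosedMor f.hom :=
  isUnivClosedMor_of_closed f hft.2 hN fun _ _ _ _ _ _ _ _ _ sq =>
    isClosedMap_of_liftsDVR X.property Y.property hft hval sq

/-- A separated morphism of finite type to a locally Noetherian space with lifts at discrete
valuation rings through a dense morphism is universally closed. -/
theorem isUnivClosedMor_of_liftsThrough {U X Y : Space S} (h : U.obj ⟶ X.obj) (f : X ⟶ Y)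
    (hN : IsLocNoethSp Y.obj) (hfs : IsSeparatedMor f.hom) (hft : IsFiniteTypeMor f.hom)
    (hh : IsFiniteTypeMor h) (hdense : Dense (Set.range (Points.map h)))
    (hval : LiftsThrough h f.hom) : IsUnivClosedMor f.hom :=
  isUnivClosedMor_of_closed f hft.2 hN fun _ _ _ _ hgf hgp _ _ _ sq =>
    isClosedMap_of_liftsThrough U.property X.property Y.property hfs hft hh hdense hval hgf hgp sq

end Groth.AlgSpDVR
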