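import Mathlib.RingTheory.Valuation.LocalSubring
import Mathlib.RingTheory.Localization.AtPrime.Basic
import Mathlib.RingTheory.Valuation.ValuationSubring

/-!
# Centred, composite and extended valuation rings
-/

set_option autoImplicit false

universe u

open IsLocalRing

namespace Groth.AlgSpDVR

variable {K : Type u} [Field K]

/-- A valuation subring with prescribed centre on a ring mapping to the field. -/
theorem exists_centred {R : Type u} [CommRing R] (θ : R →+* K) (p : Ideal R) [p.IsPrime]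
    (h : RingHom.ker θ ≤ p) :
    ∃ (A : ValuationSubring K) (hA : ∀ r, θ r ∈ A), ∀ r, IsUnit (⟨θ r, hA r⟩ : A) ↔ r ∉ p := by
  have hu : ∀ y : p.primeCompl, IsUnit (θ y) := fun y =>
    isUnit_iff_ne_zero.2 fun e => y.2 (h e)
  let lf : Localization.AtPrime p →+* K := IsLocalization.lift hu
  obtain ⟨A, hA, hloc⟩ := exists_factor_valuationRing lf
  have e : ∀ r, lf (algebraMap _ _ r) = θ r := fun r => IsLocalization.lift_eq hu r
  have hA' : ∀ r, θ r ∈ A := fun r => e r ▸ hA _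
  refine ⟨A, hA', fun r => ?_⟩
  have : (⟨θ r, hA' r⟩ : A.toSubring) = lf.codRestrict A.toSubring hA (algebraMap _ _ r) :=
    Subtype.ext (e r).symm
  refine Iff.trans ?_ (IsLocalization.AtPrime.isUnit_to_map_iff (Localization.AtPrime p) p r)
  constructor
  · intro hr
    exact hloc.map_nonunit _ (this ▸ hr)
  · intro hr
    show IsUnit (⟨θ r, hA' r⟩ : A.toSubring)
    exact this ▸ hr.map (lf.codRestrict A.toSubring hA)

/-- The composite of a valuation subring with one of its residue field. -/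
theorem exists_composite (B : ValuationSubring K) (A : ValuationSubring (ResidueField B)) :
    ∃ (C : ValuationSubring K) (hle : C ≤ B),
      (∀ x : B, (x : K) ∈ C ↔ residue B x ∈ A) ∧
      ∀ x : C, IsUnit x ↔ ∃ hx : residue B ⟨x, hle x.2⟩ ∈ A, IsUnit (⟨_, hx⟩ : A) := by
  let Csub : Subring K := (A.toSubring.comap (residue B)).map B.subtype
  let C : ValuationSubring K := ValuationSubring.ofSubring Csub fun z => by
    by_cases hzB : z ∈ B
    · by_cases hzR : residue B ⟨z, hzB⟩ ∈ A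
      · exact Or.inl ⟨⟨z, hzB⟩, hzR, rfl⟩
      · right
        have hne : residue B ⟨z, hzB⟩ ≠ 0 := fun h0 => hzR (h0 ▸ A.zero_mem)
        obtain ⟨v, hv⟩ := ((residue_ne_zero_iff_isUnit _).1 hne).exists_right_inv
        refine ⟨v, ?_, eq_inv_of_mul_eq_one_right congr(Subtype.val $hv)⟩
        have h1 : residue B ⟨z, hzB⟩ * residue B v = 1 := by rw [← map_mul, hv, map_one]
        show residue B v ∈ A
        rw [eq_inv_of_mul_eq_one_right h1]
        exact (A.mem_or_inv_mem _).resolve_left hzR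
    · right
      have hi : z⁻¹ ∈ B := (B.mem_or_inv_mem z).resolve_left hzB
      refine ⟨⟨z⁻¹, hi⟩, ?_, rfl⟩
      have h0 : residue B ⟨z⁻¹, hi⟩ = 0 := by
        by_contra hne
        obtain ⟨v, hv⟩ := ((residue_ne_zero_iff_isUnit _).1 hne).exists_right_inv
        have hv' : z⁻¹ * v.1 = 1 := congr(Subtype.val $hv)
        have hz0 : z ≠ 0 := fun h0 => hzB (h0 ▸ B.zero_mem)
        rw [inv_mul_eq_one₀ hz0] at hv'
        exact hzB (hv' ▸ v.2)
      show residue B ⟨z⁻¹, hi⟩ ∈ A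
      rw [h0]
      exact A.zero_mem
  have hle : C ≤ B := by
    rintro _ ⟨x, -, rfl⟩
    exact x.2
  have hmem : ∀ x : B, (x : K) ∈ C ↔ residue B x ∈ A := fun x => by
    constructor
    · rintro ⟨y, hy, e⟩
      obtain rfl : y = x := Subtype.ext e
      exact hy
    · exact fun h => ⟨x, h, rfl⟩
  refine ⟨C, hle, hmem, fun x => ⟨fun hu => ?_, fun ⟨hx, hu⟩ => ?_⟩⟩
  · obtain ⟨v, hv⟩ := hu.exists_right_inv
    refine ⟨(hmem ⟨x, hle x.2⟩).1 x.2, IsUnit.of_mul_eq_one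
      ⟨_, (hmem ⟨v, hle v.2⟩).1 v.2⟩ (Subtype.ext ?_)⟩
    show residue B _ * residue B _ = 1
    rw [← map_mul, show (⟨x, hle x.2⟩ : B) * ⟨v, hle v.2⟩ = 1 from
      Subtype.ext congr(Subtype.val $hv), map_one]
  · obtain ⟨v, hv⟩ := hu.exists_right_inv
    have hne : residue B ⟨x, hle x.2⟩ ≠ 0 := fun h0 => hu.ne_zero (Subtype.ext h0)
    obtain ⟨w, hw⟩ := ((residue_ne_zero_iff_isUnit _).1 hne).exists_right_inv
    have h1 : residue B ⟨x, hle x.2⟩ * residue B w = 1 := by rw [← map_mul, hw, map_one]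
    have h2 : residue B w = v.1 :=
      mul_left_cancel₀ hne (h1.trans (congr(Subtype.val $hv)).symm)
    exact IsUnit.of_mul_eq_one ⟨(w : K), (hmem w).2 (h2 ▸ v.2)⟩
      (Subtype.ext (show (x : K) * w = 1 from congr(Subtype.val $hw)))

/-- A valuation ring dominating another one meets the smaller field in it. -/
theorem mem_iff_of_local {L : Type u} [Field L] (θ : K →+* L) (C : ValuationSubring K)
    (A : ValuationSubring L) (h : ∀ x ∈ C, θ x ∈ A)
    (hloc : ∀ (x : C), IsUnit (⟨θ x, h x x.2⟩ : A) → IsUnit x) (x : K) : θ x ∈ A ↔ x ∈ C := by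
  refine ⟨fun hx => ?_, h x⟩
  by_contra hxC
  have hxi : x⁻¹ ∈ C := (C.mem_or_inv_mem x).resolve_left hxC
  have hx0 : x ≠ 0 := fun e => hxC (e ▸ C.zero_mem)
  obtain ⟨v, hv⟩ := (hloc ⟨x⁻¹, hxi⟩ (IsUnit.of_mul_eq_one ⟨θ x, hx⟩
    (Subtype.ext (show θ x⁻¹ * θ x = 1 by rw [← map_mul, inv_mul_cancel₀ hx0, map_one])))).exists_right_inv
  have hv' : x⁻¹ * v.1 = 1 := congr(Subtype.val $hv)
  rw [inv_mul_eq_one₀ hx0] at hv'
  exact hxC (hv' ▸ v.2)

/-- An overring of a valuation ring meeting the smaller field in an overring: the extension of `B`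
generated by an extension of `C ≤ B`. -/
theorem exists_over {L : Type u} [Field L] (ψ : K →+* L) {B C : ValuationSubring K} (hle : C ≤ B)
    (C' : ValuationSubring L) (hC' : ∀ x, ψ x ∈ C' ↔ x ∈ C) :
    ∃ (B' : ValuationSubring L) (_ : C' ≤ B') (hB : ∀ x ∈ B, ψ x ∈ B'),
      ∀ x : B, IsUnit (⟨ψ x, hB x x.2⟩ : B') → IsUnit x := by
  let carrier : Set L :=
    {y | ∃ (s : B) (c : C'), IsUnit s ∧ (s : K) ∈ C ∧ y * ψ s = (c : L)}
  have hne : ∀ {s : B}, IsUnit s → ψ (s : K) ≠ 0 := fun hs e => hs.ne_zero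
    (Subtype.ext ((map_eq_zero ψ).1 e))
  let Bsub : Subring L :=
    { carrier := carrier
      one_mem' := ⟨1, 1, isUnit_one, C.one_mem, by simp⟩
      zero_mem' := ⟨1, 0, isUnit_one, C.one_mem, by simp⟩
      mul_mem' := by
        rintro a b ⟨s, c, hs, hsC, e⟩ ⟨t, d, ht, htC, e'⟩
        refine ⟨s * t, c * d, hs.mul ht, C.mul_mem _ _ hsC htC, ?_⟩
        show a * b * ψ ((s : K) * t) = c.1 * d.1
        rw [← e, ← e', map_mul]; ring
      add_mem' := by
        rintro a b ⟨s, c, hs, hsC, e⟩ ⟨t, d, ht, htC, e'⟩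
        refine ⟨s * t, c * ⟨ψ t, (hC' _).2 htC⟩ + d * ⟨ψ s, (hC' _).2 hsC⟩, hs.mul ht,
          C.mul_mem _ _ hsC htC, ?_⟩
        show (a + b) * ψ ((s : K) * t) = c.1 * ψ t + d.1 * ψ s
        rw [← e, ← e', map_mul]; ring
      neg_mem' := by
        rintro a ⟨s, c, hs, hsC, e⟩
        exact ⟨s, -c, hs, hsC, by rw [neg_mul, e]; rfl⟩ }
  have hC'B : ∀ y ∈ C', y ∈ Bsub := fun y hy => ⟨1, ⟨y, hy⟩, isUnit_one, C.one_mem, by simp⟩
  let B' : ValuationSubring L := ValuationSubring.ofSubring Bsub fun y =>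
    (C'.mem_or_inv_mem y).imp (hC'B y) (hC'B _)
  have hB : ∀ x ∈ B, ψ x ∈ B' := by
    intro x hx
    by_cases hxC : x ∈ C
    · exact hC'B _ ((hC' _).2 hxC)
    have hxi : x⁻¹ ∈ C := (C.mem_or_inv_mem x).resolve_left hxC
    have hx0 : x ≠ 0 := fun e => hxC (e ▸ C.zero_mem)
    refine ⟨⟨x⁻¹, hle hxi⟩, 1,
      IsUnit.of_mul_eq_one ⟨x, hx⟩ (Subtype.ext (inv_mul_cancel₀ hx0)), hxi, ?_⟩
    show ψ x * ψ x⁻¹ = 1
    rw [← map_mul, mul_inv_cancel₀ hx0, map_one]
  refine ⟨B', hC'B, hB, fun x hu => ?_⟩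
  obtain ⟨v, hv⟩ := hu.exists_right_inv
  obtain ⟨s, c, hs, hsC, e⟩ := v.2
  have hv' : ψ x * v.1 = 1 := congr(Subtype.val $hv)
  have hx0 : (x : K) ≠ 0 := fun h0 => by simp [h0] at hv'
  have h1 : ψ ((x : K)⁻¹ * s) = c.1 := by
    rw [← e, map_mul, map_inv₀, ← eq_inv_of_mul_eq_one_right hv']
  have h2 : (x : K)⁻¹ * s ∈ C := (hC' _).1 (h1 ▸ c.2)
  obtain ⟨t, ht⟩ := hs.exists_right_inv
  refine IsUnit.of_mul_eq_one (⟨_, hle h2⟩ * t) (Subtype.ext ?_)
  show (x : K) * ((x : K)⁻¹ * s * t) = 1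
  rw [← mul_assoc, ← mul_assoc, mul_inv_cancel₀ hx0, one_mul]
  exact congr(Subtype.val $ht)

end Groth.AlgSpDVR
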