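import Groth.Agent.AlgSpDVR.Approx
import Groth.Agent.AlgSpDVR.Rings
import Groth.Agent.AlgSpDVR.Affine
import Groth.Agent.AlgSp3.ValCriteria
import Groth.Agent.AlgSp2.FppfProps
import Groth.Agent.SchemeMorphisms.Points
import Groth.Agent.Misc10.IsoNat.ValSpaces
import Groth.Agent.AlgStBasic.SpaceProps

/-!
# Valuation rings at specializations inside a separated space over an affine scheme
-/

set_option autoImplicit false
set_option backward.isDefEq.respectTransparency.types false

universe u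

open CategoryTheory CategoryTheory.Limits AlgebraicGeometry AlgSp IsLocalRing
open Groth.AlgSpBasic Groth.AlgSp3

noncomputable section

namespace Groth.AlgSpDVR

theorem not_isUnit_of_residue_eq_zero {K : Type u} [Field K] {R : Type u} [CommRing R]
    (B : ValuationSubring K) (e : R →+* B) (r : R)
    (h : (IsLocalRing.residue B).comp e r = 0) : ¬ IsUnit (e r) :=
  fun hu => (residue_ne_zero_iff_isUnit (e r)).2 hu h

theorem exists_lift_fraction {A K L : Type u} [CommRing A] [IsDomain A] [Field K] [Algebra A K]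
    [IsFractionRing A K] [Field L] (a : A →+* L) (ha : Function.Injective a) :
    ∃ χ : K →+* L, χ.comp (algebraMap A K) = a :=
  ⟨IsFractionRing.lift ha, RingHom.ext fun x => IsFractionRing.lift_algebraMap ha x⟩

section Centre

variable {M W Z : Scheme.{u}} [IsAffine W] [IsAffine Z]

/-- The map of the sections of `Z` to the residue field of a point over it. -/
def baseMap (mW : M ⟶ W) (α : W ⟶ Z) (m : M) : Γ(Z, ⊤) →+* M.residueField m :=
  (α.appTop ≫ toAff (M.fromSpecResidueField m ≫ mW)).hom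

/-- The prime of a point of an affine scheme. -/
abbrev primeOf (z : Z) : Ideal Γ(Z, ⊤) := (Z.isoSpec.hom z : PrimeSpectrum Γ(Z, ⊤)).asIdeal

/-- A composite valuation ring at a specialization of an image of a specialization. -/
theorem exists_composite_centre (mW : M ⟶ W) (α : W ⟶ Z) {m : M} {w₀ : W} {z' : Z}
    (hm : mW m ⤳ w₀) (hz : α w₀ ⤳ z') :
    ∃ (B : ValuationSubring (M.residueField m)) (gB : Spec (CommRingCat.of B) ⟶ W)
      (C : ValuationSubring (M.residueField m)) (_ : C ≤ B)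
      (hRC : ∀ r, baseMap mW α m r ∈ C),
      M.fromSpecResidueField m ≫ mW = Spec.map (CommRingCat.ofHom B.subtype) ≫ gB ∧
      gB (closedPoint B) = w₀ ∧
      ∀ r, IsUnit (⟨baseMap mW α m r, hRC r⟩ : C) ↔ r ∉ primeOf z' := by
  obtain ⟨B, gB, hgB, hgBc⟩ := exists_valuation_center mW hm
  have hθB : toAff gB ≫ CommRingCat.ofHom B.subtype = toAff (M.fromSpecResidueField m ≫ mW) := by
    rw [← toAff_map]
    exact congrArg toAff hgB.symm
  let eR : Γ(Z, ⊤) →+* B := (toAff (gB ≫ α)).hom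
  have heR : ∀ r, ((eR r : B) : M.residueField m) = baseMap mW α m r := fun r => by
    show B.subtype (toAff (gB ≫ α) r) = _
    rw [toAff_comp]
    exact congr($hθB (α.appTop r))
  have : (primeOf z').IsPrime := (Z.isoSpec.hom z' : PrimeSpectrum Γ(Z, ⊤)).2
  have hker : RingHom.ker ((IsLocalRing.residue B).comp eR) ≤ primeOf z' := by
    intro r hr
    have h1 := not_isUnit_of_residue_eq_zero B eR r hr
    refine mem_of_specializes hz ?_
    rw [← hgBc]
    exact (mem_closedPoint_iff (A := CommRingCat.of B) (gB ≫ α) r).2 h1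
  obtain ⟨A₁, hA₁, hA₁u⟩ := exists_centred ((IsLocalRing.residue B).comp eR) (primeOf z') hker
  obtain ⟨C, hCB, hCmem, hCu⟩ := exists_composite B A₁
  have hRC : ∀ r, baseMap mW α m r ∈ C := fun r => heR r ▸ (hCmem (eR r)).2 (hA₁ r)
  refine ⟨B, gB, C, hCB, hRC, hgB, hgBc, fun r => ?_⟩
  refine Iff.trans ?_ (hA₁u r)
  rw [hCu]
  have e : (⟨baseMap mW α m r, hCB (hRC r)⟩ : B) = eR r := Subtype.ext (heR r).symm
  simp only [e]
  exact ⟨fun ⟨_, hu⟩ => hu, fun hu => ⟨hA₁ r, hu⟩⟩

end Centre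

variable {S : Scheme.{u}} {P : Sp S} {W Z : Over S} [IsAffine W.left] [IsAffine Z.left]

/-- An extension of the composite valuation ring containing the generators produces a point over the
specialization in the given closed set. -/
theorem exists_mem_of_extension {snd : P ⟶ (yon S).obj Z} (hsep : IsSeparatedMor snd)
    {w : (yon S).obj W ⟶ P} {α : W ⟶ Z} (hα : (yon S).map α = w ≫ snd) {T : Set (Points P)}
    (hT : IsClosed T) {K : Type u} [Field K] {str : Spec (CommRingCat.of K) ⟶ S}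
    (xK : Over.mk str ⟶ W) (B C : ValuationSubring K) (hCB : C ≤ B)
    (gB : Spec (CommRingCat.of B) ⟶ W.left)
    (hgB : xK.left = Spec.map (CommRingCat.ofHom B.subtype) ≫ gB)
    (hw₀ : Points.ofPt w (gB (closedPoint B)) ∈ T) {z' : Z.left}
    (hRC : ∀ r, (α.left.appTop ≫ toAff xK.left).hom r ∈ C)
    (hRCu : ∀ r, IsUnit (⟨(α.left.appTop ≫ toAff xK.left).hom r, hRC r⟩ : C) ↔ r ∉ primeOf z')
    {F : Over S} (fw : F ⟶ W) (fk : F ⟶ Over.mk str)
    (hF : (yon S).map fw ≫ w = (yon S).map fk ≫ (yon S).map xK ≫ w) {i : F.left}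
    (ψ : K →+* F.left.residueField i)
    (hψ : Spec.map (CommRingCat.ofHom ψ) = F.left.fromSpecResidueField i ≫ fk.left)
    (C' : ValuationSubring (F.left.residueField i)) (hC' : ∀ x, ψ x ∈ C' ↔ x ∈ C)
    (hβC : ∀ a, toAff (F.left.fromSpecResidueField i ≫ fw.left) a ∈ C') :
    ∃ q : W.left, Points.ofPt w q ∈ T ∧ α.left q = z' := by
  let θR : Γ(Z.left, ⊤) →+* K := (α.left.appTop ≫ toAff xK.left).hom
  let β : Γ(W.left, ⊤) →+* F.left.residueField i :=
    (toAff (F.left.fromSpecResidueField i ≫ fw.left)).hom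
  have hθB : toAff gB ≫ CommRingCat.ofHom B.subtype = toAff xK.left := by
    rw [← toAff_map]
    exact congrArg toAff hgB.symm
  have hFα : fw ≫ α = fk ≫ xK ≫ α := (yon S).map_injective (by
    rw [Functor.map_comp, Functor.map_comp, Functor.map_comp, hα, ← Category.assoc, hF]
    simp only [Category.assoc])
  have hβR : ∀ r, β (α.left.appTop r) = ψ (θR r) := fun r => by
    have : α.left.appTop ≫ toAff (F.left.fromSpecResidueField i ≫ fw.left) =
        (α.left.appTop ≫ toAff xK.left) ≫ CommRingCat.ofHom ψ := by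
      rw [← toAff_comp, ← toAff_comp, ← toAff_map, hψ, Category.assoc, Category.assoc]
      exact congrArg (fun t => toAff (F.left.fromSpecResidueField i ≫ t))
        (congrArg CommaMorphism.left hFα)
    exact congr($this r)
  let βC : Γ(W.left, ⊤) ⟶ CommRingCat.of C' :=
    CommRingCat.ofHom (β.codRestrict C'.toSubring hβC)
  let gC : Spec (CommRingCat.of C') ⟶ W.left := ofAff βC
  have hgC : α.left (gC (closedPoint C')) = z' := by
    refine eq_of_asIdeal fun r => ?_
    refine Iff.trans (mem_closedPoint_iff (gC ≫ α.left) r) ?_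
    rw [toAff_comp, toAff_ofAff]
    refine Iff.trans (not_congr ?_) ((not_congr (hRCu r)).trans not_not)
    show IsUnit (⟨β (α.left.appTop r), _⟩ : C') ↔ IsUnit (⟨θR r, hRC r⟩ : C)
    simp only [hβR]
    constructor
    · intro hu
      obtain ⟨v, hv⟩ := hu.exists_right_inv
      have hv' : ψ (θR r) * v.1 = 1 := congr(Subtype.val $hv)
      have hx0 : θR r ≠ 0 := fun h0 => by simp [h0] at hv'
      have hvC : (θR r)⁻¹ ∈ C := (hC' _).1 (by
        rw [map_inv₀, ← eq_inv_of_mul_eq_one_right hv']; exact v.2)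
      exact IsUnit.of_mul_eq_one ⟨_, hvC⟩ (Subtype.ext (mul_inv_cancel₀ hx0))
    · intro hu
      obtain ⟨v, hv⟩ := hu.exists_right_inv
      refine IsUnit.of_mul_eq_one ⟨ψ v, (hC' _).2 v.2⟩ (Subtype.ext ?_)
      show ψ (θR r) * ψ (v : K) = 1
      rw [← map_mul, show θR r * v = 1 from congr(Subtype.val $hv), map_one]
  obtain ⟨B', hC'B', hBB', hB'u⟩ := exists_over ψ hCB C' hC'
  let jB : B →+* B' := (ψ.comp B.subtype).codRestrict B'.toSubring fun x => hBB' _ x.2
  have hjB : IsLocalHom jB := ⟨fun x hx => hB'u x hx⟩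
  let inc : C' →+* B' := C'.subtype.codRestrict B'.toSubring fun y => hC'B' y.2
  let sB : Spec (F.left.residueField i) ⟶ Spec (CommRingCat.of B') :=
    Spec.map (CommRingCat.ofHom B'.subtype)
  have e₂ : sB ≫ Spec.map (CommRingCat.ofHom inc) ≫ gC =
      F.left.fromSpecResidueField i ≫ fw.left := by
    refine toAff_injective ?_
    simp only [sB, gC, toAff_map, toAff_ofAff]
    rfl
  have e₁' : sB ≫ Spec.map (CommRingCat.ofHom jB) ≫ gB =
      F.left.fromSpecResidueField i ≫ fk.left ≫ xK.left := by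
    have e₁ : sB ≫ Spec.map (CommRingCat.ofHom jB) =
        Spec.map (CommRingCat.ofHom ψ) ≫ Spec.map (CommRingCat.ofHom B.subtype) := by
      rw [← Spec.map_comp, ← Spec.map_comp]
      rfl
    rw [← Category.assoc, e₁, Category.assoc, hψ, Category.assoc, hgB]
  have eα : Spec.map (CommRingCat.ofHom jB) ≫ gB ≫ α.left =
      Spec.map (CommRingCat.ofHom inc) ≫ gC ≫ α.left := by
    refine toAff_injective ?_
    rw [toAff_map, toAff_map, toAff_comp, toAff_comp]
    simp only [gC, toAff_ofAff]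
    ext r
    show ψ (B.subtype (toAff gB (α.left.appTop r))) = β (α.left.appTop r)
    rw [hβR]
    exact congrArg ψ congr($hθB (α.left.appTop r))
  let TB : Over S := Over.mk (Spec.map (CommRingCat.ofHom inc) ≫ gC ≫ W.hom)
  let q₁ : TB ⟶ W := Over.homMk (Spec.map (CommRingCat.ofHom jB) ≫ gB) (by
    show (_ ≫ gB) ≫ W.hom = _ ≫ gC ≫ W.hom
    rw [← Over.w α]
    simp only [Category.assoc]
    rw [reassoc_of% eα])
  let q₂ : TB ⟶ W := Over.homMk (Spec.map (CommRingCat.ofHom inc) ≫ gC) (Category.assoc _ _ _)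
  let Ti : Over S := Over.mk (F.left.fromSpecResidueField i ≫ F.hom)
  let ri : Ti ⟶ F := Over.homMk (F.left.fromSpecResidueField i) rfl
  let si : Ti ⟶ TB := Over.homMk sB (by
    show sB ≫ Spec.map _ ≫ gC ≫ W.hom = F.left.fromSpecResidueField i ≫ F.hom
    rw [reassoc_of% e₂, Over.w fw])
  have hq : (yon S).map q₁ ≫ w = (yon S).map q₂ ≫ w := by
    refine Groth.Misc10.IsoNat.eq_of_schDominant hsep si
      (Groth.Misc10.IsoNat.isSchDominant_spec (CommRingCat.ofHom B'.subtype) Subtype.val_injective)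
      ?_ ?_
    · rw [Category.assoc, Category.assoc, ← hα, ← Functor.map_comp, ← Functor.map_comp]
      congr 1
      refine Over.OverMorphism.ext ?_
      show (_ ≫ gB) ≫ α.left = (_ ≫ gC) ≫ α.left
      rw [Category.assoc, Category.assoc, eα]
    · have h₁ : si ≫ q₁ = ri ≫ fk ≫ xK := Over.OverMorphism.ext e₁'
      have h₂ : si ≫ q₂ = ri ≫ fw := Over.OverMorphism.ext e₂
      have h₁' := congrArg (fun t => (yon S).map t ≫ w) h₁
      have h₂' := congrArg (fun t => (yon S).map t ≫ w) h₂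
      simp only [Functor.map_comp, Category.assoc] at h₁' h₂'
      rw [h₁', h₂', hF]
  let c : TB.left := closedPoint B'
  have hgen : Points.ofPt w (q₂.left c) ∈ T := by
    rw [← ofPt_comp_yon, ← hq, ofPt_comp_yon]
    show Points.ofPt w (gB (Spec.map (CommRingCat.ofHom jB) c)) ∈ T
    rw [show Spec.map (CommRingCat.ofHom jB) c = closedPoint B from IsLocalRing.comap_closedPoint jB]
    exact hw₀
  refine ⟨gC (closedPoint C'), ?_, hgC⟩
  exact (((IsLocalRing.specializes_closedPoint (R := C')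
    (Spec.map (CommRingCat.ofHom inc) c)).map gC.continuous).map
      (Points.continuous_ofPt w)).mem_closed hT hgen

/-- A lift of an extension of a valuation ring gives an extension to a residue field of the fibre
containing the sections of the chart. -/
theorem exists_extension_of_lift (hP : IsAlgSpace P) {w : (yon S).obj W ⟶ P}
    (hwe : RepWith @Etale w) (hws : RepWith @Surjective w) {K : Type u} [Field K]
    (D : ValuationSubring K) {str : Spec (CommRingCat.of K) ⟶ S} (xK : Over.mk str ⟶ W)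
    {A' K' : Type u} [CommRing A'] [IsDomain A'] [ValuationRing A'] [Field K'] [Algebra A' K']
    [IsFractionRing A' K'] (φ : D →+* A') [IsLocalHom φ] (ψK : K →+* K')
    (hcomm : (algebraMap A' K').comp φ = ψK.comp D.subtype) {strA : Spec (CommRingCat.of A') ⟶ S}
    (l' : (yon S).obj (Over.mk strA) ⟶ P)
    (pK : Over.mk (Spec.map (CommRingCat.ofHom (algebraMap A' K')) ≫ strA) ⟶ Over.mk str)
    (hpK : pK.left = Spec.map (CommRingCat.ofHom ψK))
    (hjl : (yon S).map (Over.homMk (Spec.map (CommRingCat.ofHom (algebraMap A' K'))) rfl :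
      Over.mk (Spec.map (CommRingCat.ofHom (algebraMap A' K')) ≫ strA) ⟶ Over.mk strA) ≫ l' =
        (yon S).map pK ≫ (yon S).map xK ≫ w)
    {F : Over S} {fw : F ⟶ W} {fk : F ⟶ Over.mk str}
    (sqF : IsPullback ((yon S).map fw) ((yon S).map fk) w ((yon S).map xK ≫ w))
    (ψ : ∀ i : F.left, K →+* F.left.residueField i)
    (hψ : ∀ i, Spec.map (CommRingCat.ofHom (ψ i)) = F.left.fromSpecResidueField i ≫ fk.left) :
    ∃ (y : F.left) (C' : ValuationSubring (F.left.residueField y)),
      (∀ x, ψ y x ∈ C' ↔ x ∈ D) ∧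
      ∀ a, toAff (F.left.fromSpecResidueField y ≫ fw.left) a ∈ C' := by
  let TK' : Over S := Over.mk (Spec.map (CommRingCat.ofHom (algebraMap A' K')) ≫ strA)
  let jj : TK' ⟶ Over.mk strA :=
    Over.homMk (Spec.map (CommRingCat.ofHom (algebraMap A' K'))) rfl
  obtain ⟨Mx, mw, ml, sqX⟩ := exists_pullback_of_diag hP.diag w l'
  have : Etale ml.left := (repWith_yon_map_iff _ ml).1 (repWith_of_isPullback sqX hwe)
  let cA : (Over.mk strA).left := closedPoint A'
  let z₀ : TK'.left := closedPoint K'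
  obtain ⟨q, hq⟩ := surjective_ofPt_of_repWith hws (Points.ofPt l' cA)
  obtain ⟨μ, -, hμc⟩ := (ofPt_eq_ofPt_iff sqX q cA).1 hq
  obtain ⟨μ', hμ', hμz⟩ := Flat.generalizingMap ml.left
    (show jj.left z₀ ⤳ ml.left μ by
      rw [hμc]; exact specializes_of_fraction (A := A') (K := K') z₀ cA)
  obtain ⟨A₃, g₃, hg₃, hg₃c⟩ := exists_valuation_center (𝟙 Mx.left)
    (show (𝟙 Mx.left : Mx.left ⟶ Mx.left) μ' ⤳ μ from hμ')
  rw [Category.comp_id] at hg₃
  let a' : CommRingCat.of A' ⟶ Mx.left.residueField μ' :=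
    Spec.preimage (Mx.left.fromSpecResidueField μ' ≫ ml.left)
  have ha' : Spec.map a' = Mx.left.fromSpecResidueField μ' ≫ ml.left := Spec.map_preimage _
  let a₃ : CommRingCat.of A' ⟶ CommRingCat.of A₃ := Spec.preimage (g₃ ≫ ml.left)
  have ha₃ : Spec.map a₃ = g₃ ≫ ml.left := Spec.map_preimage _
  have ha₃' : a₃ ≫ CommRingCat.ofHom A₃.subtype = a' := by
    apply Spec.map_injective
    rw [Spec.map_comp, ha₃, ha', hg₃, Category.assoc]
    rfl
  have ha₃l : IsLocalHom a₃.hom := by
    refine isLocalHom_of_closedPoint _ ?_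
    rw [CommRingCat.ofHom_hom, ha₃, Scheme.Hom.comp_apply, hg₃c]
    exact hμc
  have ha'i : Function.Injective a'.hom := by
    rw [RingHom.injective_iff_ker_eq_bot]
    let z : Spec (Mx.left.residueField μ') := closedPoint (Mx.left.residueField μ')
    have hz₀ : Spec.map a' z = jj.left z₀ := by
      rw [ha', Scheme.Hom.comp_apply, Scheme.fromSpecResidueField_apply, hμz]
    have h0 := congrArg (fun p : PrimeSpectrum A' => p.asIdeal) hz₀
    have b₁ : (z : PrimeSpectrum (Mx.left.residueField μ')).asIdeal = ⊥ :=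
      (Ideal.eq_bot_or_top _).resolve_right (z : PrimeSpectrum _).2.ne_top
    have b₂ : (z₀ : PrimeSpectrum K').asIdeal = ⊥ :=
      (Ideal.eq_bot_or_top _).resolve_right (z₀ : PrimeSpectrum K').2.ne_top
    change Ideal.comap a'.hom (z : PrimeSpectrum (Mx.left.residueField μ')).asIdeal =
      Ideal.comap (algebraMap A' K') (z₀ : PrimeSpectrum K').asIdeal at h0
    rwa [b₁, b₂, Ideal.comap_bot_of_injective _ (IsFractionRing.injective A' K')] at h0
  obtain ⟨χ, hχ⟩ : ∃ χ : CommRingCat.of K' ⟶ Mx.left.residueField μ',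
      CommRingCat.ofHom (algebraMap A' K') ≫ χ = a' := by
    obtain ⟨c, hc⟩ := exists_lift_fraction (K := K') a'.hom ha'i
    exact ⟨CommRingCat.ofHom c, CommRingCat.hom_ext hc⟩
  let Tμ : Over S := Over.mk (Mx.left.fromSpecResidueField μ' ≫ Mx.hom)
  let rμ : Tμ ⟶ Mx := Over.homMk (Mx.left.fromSpecResidueField μ') rfl
  have hχl : Spec.map χ ≫ jj.left = Mx.left.fromSpecResidueField μ' ≫ ml.left := by
    show _ ≫ Spec.map _ = _
    rw [← Spec.map_comp, hχ, ha']
  let tK' : Tμ ⟶ TK' := Over.homMk (Spec.map χ) (by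
    rw [← Over.w jj, reassoc_of% hχl, Over.w ml]
    rfl)
  have htK : rμ ≫ ml = tK' ≫ jj := Over.OverMorphism.ext hχl.symm
  let tψ : Tμ ⟶ Over.mk str := tK' ≫ pK
  obtain ⟨lF, hlFw, hlFk⟩ : ∃ lF : Tμ ⟶ F, lF ≫ fw = rμ ≫ mw ∧ lF ≫ fk = tψ := by
    have comm : (yon S).map (rμ ≫ mw) ≫ w = (yon S).map tψ ≫ (yon S).map xK ≫ w := by
      rw [Functor.map_comp, Category.assoc, sqX.w, ← Functor.map_comp_assoc, htK,
        Functor.map_comp_assoc, hjl]
      simp only [tψ, Functor.map_comp, Category.assoc]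
    obtain ⟨lF, hlF⟩ := (yon S).map_surjective (sqF.lift _ _ comm)
    exact ⟨lF, (yon S).map_injective (by rw [Functor.map_comp, hlF, sqF.lift_fst]),
      (yon S).map_injective (by rw [Functor.map_comp, hlF, sqF.lift_snd])⟩
  obtain ⟨⟨y, χy⟩, hy⟩ :=
    (Scheme.SpecToEquivOfField (Mx.left.residueField μ') F.left).symm.surjective lF.left
  change Spec.map χy ≫ F.left.fromSpecResidueField y = lF.left at hy
  have hψy : CommRingCat.ofHom (ψ y) ≫ χy = CommRingCat.ofHom ψK ≫ χ := by
    apply Spec.map_injective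
    rw [Spec.map_comp, hψ y, ← Category.assoc, hy, Spec.map_comp,
      ← Over.comp_left, hlFk]
    show Spec.map _ ≫ pK.left = Spec.map _ ≫ Spec.map _
    rw [hpK]
  have hDA : ∀ x (hx : x ∈ D), χ.hom (ψK x) = A₃.subtype (a₃ (φ ⟨x, hx⟩)) := fun x hx => by
    have h1 : A₃.subtype (a₃ (φ ⟨x, hx⟩)) = a' (φ ⟨x, hx⟩) := congr($ha₃' (φ ⟨x, hx⟩))
    rw [h1]
    refine Eq.trans ?_ congr($hχ (φ ⟨x, hx⟩))
    exact congrArg χ.hom congr($hcomm (⟨x, hx⟩ : D)).symm
  refine ⟨y, A₃.comap χy.hom, fun x => ?_, fun a => ?_⟩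
  · rw [ValuationSubring.mem_comap, show χy.hom (ψ y x) = (χ.hom.comp ψK) x from congr($hψy x)]
    refine mem_iff_of_local (χ.hom.comp ψK) D A₃
      (fun z hz => by rw [RingHom.comp_apply, hDA z hz]; exact (a₃ (φ ⟨z, hz⟩)).2)
      (fun z hu => ?_) x
    refine IsUnit.of_map φ _ (ha₃l.map_nonunit _ ?_)
    convert hu using 1
    exact Subtype.ext (hDA z.1 z.2).symm
  · rw [ValuationSubring.mem_comap]
    have h1 : toAff (F.left.fromSpecResidueField y ≫ fw.left) ≫ χy =
        toAff (g₃ ≫ mw.left) ≫ CommRingCat.ofHom A₃.subtype := by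
      rw [← toAff_map, ← toAff_map, reassoc_of% hy, ← Over.comp_left, hlFw]
      exact congrArg toAff ((congrArg (· ≫ mw.left) hg₃).trans (Category.assoc _ _ _))
    rw [show χy.hom (toAff (F.left.fromSpecResidueField y ≫ fw.left) a) =
      A₃.subtype (toAff (g₃ ≫ mw.left) a) from congr($h1 a)]
    exact (toAff (g₃ ≫ mw.left) a).2

end Groth.AlgSpDVR
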