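import Groth.Agent.AlgSpDVR.Closed
import Groth.Agent.AlgSp3.ValCriteria
import Groth.Agent.AlgSp3.SepLift
import Groth.Agent.AlgSp2.Locality
import Groth.Agent.AlgSp2.CancelSep
import Groth.Agent.Misc10.IsoNat.ValSpaces
import Groth.Agent.S9951

/-!
# Separated and proper morphisms from discrete valuation rings
-/

set_option autoImplicit false
set_option backward.isDefEq.respectTransparency.types false

universe u

open CategoryTheory CategoryTheory.Limits AlgebraicGeometry AlgSp
open Groth.AlgSpBasic Groth.AlgSp3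

noncomputable section

namespace Groth.AlgSpDVR

variable {S : Scheme.{u}}

/-- Separatedness from uniqueness of lifts at discrete valuation rings through a dense morphism. -/
theorem isSeparatedMor_of_uniqThrough {U X Y : Space S} (h : U.obj ⟶ X.obj) (f : X ⟶ Y)
    (hY : IsLocNoethSp Y.obj) (hflt : LocP @LocallyOfFiniteType f.hom)
    (hqs : IsQuasiSeparatedMor f.hom) (hh : IsFiniteTypeMor h)
    (hdense : Dense (Set.range (Points.map h)))
    (hval : ∀ sq : ValSq (h ≫ f.hom), IsDiscreteValuationRing sq.A →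
      ∀ l l' : (yon S).obj sq.ptA ⟶ X.obj,
        (yon S).map sq.j ≫ l = sq.top ≫ h ∧ l ≫ f.hom = sq.bot →
        (yon S).map sq.j ≫ l' = sq.top ≫ h ∧ l' ≫ f.hom = sq.bot → l = l') :
    IsSeparatedMor f.hom := by
  have hX := X.property
  have hsq := IsPullback.of_hasPullback f.hom f.hom
  have hP : IsAlgSpace (pullback f.hom f.hom) :=
    isAlgSpace_of_isPullback hsq Y.property.diag hX hX
  let XX : Space S := ⟨pullback f.hom f.hom, hP⟩
  let δ : X ⟶ XX := ObjectProperty.homMk (pullback.diagonal f.hom)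
  let p : XX ⟶ Y := ObjectProperty.homMk (pullback.fst f.hom f.hom ≫ f.hom)
  have hN : IsLocNoethSp XX.obj := Groth.Agent.S9951.result p
    (locP_comp hP hX Y.property (locP_of_isPullback hX Y.property hX hsq.flip hflt) hflt) hY
  have : Mono δ.hom := (inferInstance : Mono (pullback.diagonal f.hom))
  have hsep : IsSeparatedMor δ.hom := Groth.AlgSpBasic.repWith_isIso _
  have hlft : LocP @LocallyOfFiniteType δ.hom :=
    locP_of_comp_of_cancel (fun A B C a b (e : LocallyOfFiniteType (a ≫ b)) =>
      locallyOfFiniteType_of_comp a b) hX hP hX (g := pullback.fst f.hom f.hom)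
      ((pullback.diagonal_fst f.hom).symm ▸ Groth.AlgSp2.locP_id X.obj)
  have hft : IsFiniteTypeMor δ.hom := ⟨hlft, isQuasiCompactMor_of_repWith hX hP hqs⟩
  refine (Groth.AlgSp2.isSeparatedMor_iff_univClosed_diagonal hX f.hom).2
    (isUnivClosedMor_of_liftsThrough h δ hN hsep hft hh hdense fun sq hA => ?_)
  have h₁ := sq.comm =≫ pullback.fst f.hom f.hom
  have h₂ := sq.comm =≫ pullback.snd f.hom f.hom
  simp only [δ, ObjectProperty.homMk_hom, Category.assoc, pullback.diagonal_fst,
    pullback.diagonal_snd, Category.comp_id] at h₁ h₂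
  let v : ValSq (h ≫ f.hom) :=
    { A := sq.A, K := sq.K, str := sq.str, top := sq.top
      bot := sq.bot ≫ pullback.fst f.hom f.hom ≫ f.hom
      comm := by
        rw [← Category.assoc sq.top, h₁, Category.assoc, Category.assoc] }
  have e : sq.bot ≫ pullback.fst f.hom f.hom = sq.bot ≫ pullback.snd f.hom f.hom :=
    hval v hA _ _ ⟨h₁.symm, Category.assoc _ _ _⟩ ⟨h₂.symm, by
      show (sq.bot ≫ pullback.snd f.hom f.hom) ≫ f.hom = sq.bot ≫ pullback.fst f.hom f.hom ≫ f.hom
      rw [Category.assoc, pullback.condition]⟩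
  refine hasLiftExt_of_hasLift _ ⟨sq.bot ≫ pullback.fst f.hom f.hom, h₁.symm, ?_⟩
  show (sq.bot ≫ pullback.fst f.hom f.hom) ≫ pullback.diagonal f.hom = sq.bot
  apply pullback.hom_ext
  · rw [Category.assoc, pullback.diagonal_fst, Category.comp_id]
  · rw [Category.assoc, pullback.diagonal_snd, Category.comp_id, e]

/-- Properness from existence of lifts at discrete valuation rings through a dense morphism. -/
theorem isProperMor_of_existsThrough {U X Y : Space S} (h : U.obj ⟶ X.obj) (f : X ⟶ Y)
    (hY : IsLocNoethSp Y.obj) (hfs : IsSeparatedMor f.hom) (hft : IsFiniteTypeMor f.hom)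
    (hh : IsFiniteTypeMor h) (hdense : Dense (Set.range (Points.map h)))
    (hval : ∀ sq : ValSq (h ≫ f.hom), IsDiscreteValuationRing sq.A →
      ∃ l : (yon S).obj sq.ptA ⟶ X.obj,
        (yon S).map sq.j ≫ l = sq.top ≫ h ∧ l ≫ f.hom = sq.bot) :
    IsProperMor f.hom :=
  ⟨hfs, hft, isUnivClosedMor_of_liftsThrough h f hY hfs hft hh hdense fun sq hA =>
    hasLiftExt_of_hasLift _ (hval sq hA)⟩

/-- A separated morphism has unique lifts. -/
theorem hasUniq_of_separated {X Y : Sp S} {f : X ⟶ Y} (hsep : IsSeparatedMor f) (sq : ValSq f) :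
    sq.HasUniq := fun l l' h₁ h₂ h₁' h₂' =>
  Groth.Misc10.IsoNat.eq_of_schDominant hsep sq.j
    (Groth.Misc10.IsoNat.isSchDominant_spec (CommRingCat.ofHom (algebraMap sq.A sq.K))
      (IsFractionRing.injective sq.A sq.K))
    (h₂.trans h₂'.symm) (h₁.trans h₁'.symm)

/-- The identity is of finite type. -/
theorem isFiniteTypeMor_id {X : Sp S} (hX : IsAlgSpace X) : IsFiniteTypeMor (𝟙 X) :=
  ⟨Groth.AlgSp2.locP_id X, isQuasiCompactMor_of_repWith hX hX (Groth.AlgSpBasic.repWith_isIso _)⟩

/-- Separatedness from uniqueness of lifts at discrete valuation rings. -/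
theorem isSeparatedMor_of_uniqDVR {X Y : Space S} (f : X ⟶ Y) (hY : IsLocNoethSp Y.obj)
    (hflt : LocP @LocallyOfFiniteType f.hom) (hqs : IsQuasiSeparatedMor f.hom)
    (hval : ∀ sq : ValSq f.hom, IsDiscreteValuationRing sq.A → sq.HasUniq) :
    IsSeparatedMor f.hom := by
  refine isSeparatedMor_of_uniqThrough (𝟙 X.obj) f hY hflt hqs (isFiniteTypeMor_id X.property)
    ?_ fun sq hA l l' hl hl' => ?_
  · rw [Set.range_eq_univ.2 fun x => ⟨x, Points.map_id x⟩]
    exact dense_univ
  · let v : ValSq f.hom :=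
      { A := sq.A, K := sq.K, str := sq.str, top := sq.top, bot := sq.bot
        comm := (congrArg (sq.top ≫ ·) (Category.id_comp f.hom).symm).trans sq.comm }
    exact hval v hA l l' (hl.1.trans (Category.comp_id _)) hl.2
      (hl'.1.trans (Category.comp_id _)) hl'.2

/-- Universal closedness gives lifts without extension for separated morphisms. -/
theorem hasLift_of_separated_univClosed {X Y : Sp S} {f : X ⟶ Y} (hX : IsAlgSpace X)
    (hY : IsAlgSpace Y) (hqs : IsQuasiSeparatedMor f) (hsep : IsSeparatedMor f)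
    (hc : IsUnivClosedMor f) (sq : ValSq f) : sq.HasLift := by
  obtain ⟨e, he⟩ := existVC_of_isUnivClosedMor hX hY hqs hc sq
  exact hasLift_of_hasLiftExt_of_separated hX hY hsep sq e he

end Groth.AlgSpDVR
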