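import Groth.Agent.AlgSp3.ValCriteria
import Groth.Agent.AlgSpBasic.DecentTop

/-!
# Existence of lifts for universally closed morphisms with decent base changes
-/

set_option autoImplicit false
set_option backward.isDefEq.respectTransparency.types false

universe u

open CategoryTheory CategoryTheory.Limits AlgebraicGeometry AlgSp
open Groth.AlgSpBasic Groth.AlgSp3

noncomputable section

namespace Groth.AlgSpDVR

variable {S : Scheme.{u}} {X Y : Sp S} {f : X ⟶ Y}

/-- A quasi-compact universally closed morphism with decent base changes to valuation rings satisfies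
the existence part. -/
theorem existVC_of_decent (hX : IsAlgSpace X) (hY : IsAlgSpace Y)
    (hq : IsQuasiCompactMor f) (hd : ∀ sq : ValSq f, IsDecent (pullback f sq.bot))
    (hc : IsUnivClosedMor f) : ExistVC f := by
  intro sq
  have sqP := IsPullback.of_hasPullback f sq.bot
  let π := pullback.snd f sq.bot
  have hP := isAlgSpace_of_isPullback sqP hY.diag hX (IsAlgSpace.yon_obj sq.ptA)
  have hπc : IsUnivClosedMor π := isUnivClosedMor_of_isPullback sqP hc
  have hπq : IsQuasiCompactMor π := isQuasiCompactMor_of_isPullback sqP hq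
  have : IsAffine sq.ptA.left := inferInstanceAs (IsAffine (Spec (CommRingCat.of sq.A)))
  have hPc : IsQuasiCompactSp (pullback f sq.bot) := hπq (IsAlgSpace.yon_obj sq.ptA)
    ((isQuasiCompactSp_yon_iff _).2 (inferInstance : CompactSpace sq.ptA.left)) (𝟙 _) (𝟙 _) π
    IsPullback.of_id_fst
  obtain ⟨W, w, hW, hwe, hws⟩ := exists_affine_chart hP hPc
  obtain ⟨α, hα⟩ := (yon S).map_surjective (w ≫ π)
  obtain ⟨x, hx₁, hx₂⟩ : ∃ x : (yon S).obj sq.ptK ⟶ pullback f sq.bot,
      x ≫ pullback.fst f sq.bot = sq.top ∧ x ≫ π = (yon S).map sq.j :=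
    ⟨_, sqP.lift_fst _ _ sq.comm, sqP.lift_snd _ _ sq.comm⟩
  obtain ⟨F, fw, fk, sqF⟩ := exists_pullback_of_diag hP.diag w x
  let k₀ : sq.ptK.left := IsLocalRing.closedPoint sq.K
  have hk₀ : ∀ y : sq.ptK.left, y = k₀ := fun y =>
    Subsingleton.elim (α := PrimeSpectrum sq.K) y k₀
  -- a point over the closed point in the closure of the generic point
  let ξ := Points.ofPt x k₀
  let cA : sq.ptA.left := IsLocalRing.closedPoint sq.A
  have hπcl : IsClosed (Points.map π '' closure {ξ}) :=
    hπc (IsAlgSpace.yon_obj sq.ptA) (𝟙 _) (𝟙 _) π IsPullback.of_id_fst _ isClosed_closure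
  have hcl : Points.schemeHomeo sq.ptA cA ∈ Points.map π '' closure {ξ} := by
    refine Specializes.mem_closed (x := Points.schemeHomeo sq.ptA (sq.j.left k₀)) ?_ hπcl
      ⟨ξ, subset_closure rfl, ?_⟩
    · exact (specializes_of_fraction (A := sq.A) (K := sq.K) k₀ cA).map
        (Points.schemeHomeo sq.ptA).continuous
    · rw [Points.map_ofPt, hx₂, ofPt_eq_map]
      exact Points.map_yon_map_apply sq.j k₀
  obtain ⟨p, hp, hpc⟩ := hcl
  obtain ⟨q, rfl⟩ := surjective_ofPt_of_repWith hws p
  have hqc : α.left q = cA := (Points.schemeHomeo sq.ptA).injective (by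
    refine (Points.map_yon_map_apply α q).symm.trans ?_
    rw [hα, Points.map_comp]
    exact (congrArg (Points.map π) (ofPt_eq_map w q).symm).trans hpc)
  have hmem : q ∈ closure (Points.ofPt w ⁻¹' {ξ}) := by
    rw [← (isOpenMap_ofPt_of_etale hwe).preimage_closure_eq_closure_preimage
      (Points.continuous_ofPt w)]
    exact hp
  have hpre : Points.ofPt w ⁻¹' {ξ} = Set.range fw.left := by
    ext u
    rw [Set.mem_preimage, Set.mem_singleton_iff, ofPt_eq_ofPt_iff sqF]
    exact ⟨fun ⟨y, hy, _⟩ => ⟨y, hy⟩, fun ⟨y, hy⟩ => ⟨y, hy, hk₀ _⟩⟩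
  have hfin : (Points.ofPt w ⁻¹' {ξ}).Finite := finiteAt_of_isDecent (hd sq) ξ W w hW hwe
  rw [← Set.biUnion_of_singleton (Points.ofPt w ⁻¹' {ξ}), hfin.closure_biUnion] at hmem
  obtain ⟨u, hu, hy⟩ := Set.mem_iUnion₂.1 hmem
  rw [hpre] at hu
  obtain ⟨y, rfl⟩ := hu
  obtain ⟨e, he, -⟩ := exists_lift_of_specializes sq (w := w ≫ pullback.fst f sq.bot) (α := α)
    (by rw [Category.assoc, sqP.w, ← Category.assoc, hα]) (fw := fw) (fk := fk)
    (by rw [← Category.assoc, sqF.w, Category.assoc, hx₁])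
    ((yon S).map_injective (by
      rw [Functor.map_comp, Functor.map_comp, hα, ← Category.assoc, sqF.w, Category.assoc, hx₂]))
    (specializes_iff_mem_closure.2 hy) hqc
  exact ⟨e, he⟩

end Groth.AlgSpDVR
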