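import Groth.Agent.EGA43Valuative.DominatingDVR
import Mathlib.RingTheory.DiscreteValuationRing.Basic

/-!
# Finite separable extensions of discrete valuation rings
-/

set_option autoImplicit false

universe u

open IsLocalRing

noncomputable section

namespace Groth.AlgSpDVR

/-- A valuation ring of a finite separable extension dominating a discrete valuation ring is a
discrete valuation ring. -/
theorem isDiscreteValuationRing_of_finite_separable {A K A' K' : Type u} [CommRing A] [IsDomain A]
    [IsDiscreteValuationRing A] [Field K] [Algebra A K] [IsFractionRing A K] [CommRing A']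
    [IsDomain A'] [ValuationRing A'] [Field K'] [Algebra A' K'] [IsFractionRing A' K']
    (φ : A →+* A') (hφ : IsLocalHom φ) (ψ : K →+* K')
    (comm : (algebraMap A' K').comp φ = ψ.comp (algebraMap A K))
    (hfin : letI := ψ.toAlgebra; Module.Finite K K')
    (hsep : letI := ψ.toAlgebra; Algebra.IsSeparable K K') : IsDiscreteValuationRing A' := by
  letI := ψ.toAlgebra
  letI : Algebra A K' := (ψ.comp (algebraMap A K)).toAlgebra
  haveI : IsScalarTower A K K' := IsScalarTower.of_algebraMap_eq fun _ => rfl
  haveI := hfin
  haveI := hsep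
  let C := integralClosure A K'
  haveI : IsDedekindDomain C := IsIntegralClosure.isDedekindDomain A K K' C
  haveI : IsFractionRing C K' := IsIntegralClosure.isFractionRing_of_finite_extension A K K' C
  have hinj := IsFractionRing.injective A' K'
  let V : ValuationSubring K' :=
    ValuationSubring.ofSubring (algebraMap A' K').range fun x => by
      rcases ValuationRing.isInteger_or_isInteger A' x with ⟨a, ha⟩ | ⟨a, ha⟩
      · exact Or.inl ⟨a, ha⟩
      · exact Or.inr ⟨a, ha⟩
  have hV : V ≠ ⊤ := by
    intro hV
    obtain ⟨π, hπ⟩ := IsDiscreteValuationRing.exists_irreducible A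
    have hπ0 : algebraMap A' K' (φ π) ≠ 0 := by
      rw [← RingHom.comp_apply, comm, RingHom.comp_apply]
      exact fun h => hπ.ne_zero (IsFractionRing.injective A K
        (((map_eq_zero ψ).1 h).trans (map_zero _).symm))
    obtain ⟨b, hb⟩ : (algebraMap A' K' (φ π))⁻¹ ∈ V := hV ▸ ValuationSubring.mem_top _
    have h1 : φ π * b = 1 := hinj (by rw [map_mul, hb, mul_inv_cancel₀ hπ0, map_one])
    exact hπ.not_isUnit (hφ.map_nonunit π (IsUnit.of_mul_eq_one b h1))
  have hC : ∀ c : C, algebraMap C K' c ∈ V := by
    intro c
    letI : Algebra A A' := φ.toAlgebra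
    haveI : IsScalarTower A A' K' := IsScalarTower.of_algebraMap_eq fun a =>
      (RingHom.congr_fun comm a).symm
    have hc : IsIntegral A' (c : K') := c.2.tower_top
    obtain ⟨y, hy⟩ := IsIntegrallyClosed.isIntegral_iff.1 hc
    exact ⟨y, hy⟩
  haveI : IsDiscreteValuationRing V := Groth.EGA43Val.isDiscreteValuationRing_of_le V hV hC
  let e : A' ≃+* V := RingEquiv.ofBijective (algebraMap A' K').rangeRestrict
    ⟨fun a b h => hinj (congrArg Subtype.val h), (algebraMap A' K').rangeRestrict_surjective⟩
  exact IsDiscreteValuationRing.RingEquivClass.isDiscreteValuationRing e.symm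

end Groth.AlgSpDVR
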